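import Mathlib
import Groth.Prelude.Def_WeilCoh
import Groth.Agent.DimFormulaLib.Field
import Groth.Agent.FlatDim.Trdeg

/-!
Dimensions of closures of points and residue degrees for schemes locally of finite type over a field.
-/

set_option autoImplicit false
set_option linter.style.haveILetI false

universe u

noncomputable section

open AlgebraicGeometry CategoryTheory WeilCoh Groth.Agent.DimFormulaLib

namespace Groth.Agent.WeilCohLib

variable {k : Type u} [Field k] {X Y : Scheme.{u}}

theorem residueDegree_eq_one_of_surjective (f : X ⟶ Y) (x : X) (h : Function.Surjective (f.residueFieldMap x)) :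
    f.residueDegree x = 1 := by
  unfold Scheme.Hom.residueDegree
  letI := (f.residueFieldMap x).hom.toAlgebra
  exact ((LinearEquiv.ofBijective (Algebra.linearMap (Y.residueField (f x)) (X.residueField x))
    ⟨(f.residueFieldMap x).hom.injective, h⟩).finrank_eq).symm.trans (Module.finrank_self _)

theorem surjective_residueFieldMap_congr {f g : X ⟶ Y} (h : f = g) (x : X)
    (hg : Function.Surjective (g.residueFieldMap x)) : Function.Surjective (f.residueFieldMap x) := by
  subst h; exact hg

theorem residueDegree_of_comp_eq_id (j : X ⟶ Y) (p : Y ⟶ X) (h : j ≫ p = 𝟙 X) (x : X) :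
    j.residueDegree x = 1 ∧ p.residueDegree (j x) = 1 := by
  have hid : Function.Surjective ((𝟙 X : X ⟶ X).residueFieldMap x) := by
    rw [Scheme.residueFieldMap_id]; exact fun z => ⟨z, rfl⟩
  have hs := surjective_residueFieldMap_congr h x hid
  rw [Scheme.residueFieldMap_comp] at hs
  have hj : Function.Surjective (j.residueFieldMap x) := fun z => by
    obtain ⟨a, ha⟩ := hs z; exact ⟨p.residueFieldMap (j x) a, ha⟩
  refine ⟨residueDegree_eq_one_of_surjective j x hj, residueDegree_eq_one_of_surjective p (j x) fun z => ?_⟩
  obtain ⟨a, ha⟩ := hs (j.residueFieldMap x z)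
  exact ⟨a, (j.residueFieldMap x).hom.injective ha⟩

variable (f : X ⟶ Spec (CommRingCat.of k)) [LocallyOfFiniteType f]

include f in
theorem height_eq (ξ : X) : Order.height ξ = (pdim X ξ : ℕ∞) ∧ resTrdegAt f ξ = (pdim X ξ : Cardinal.{u}) := by
  obtain ⟨-, t, -, ht, -, hh⟩ := field_dims f ξ
  have hp : pdim X ξ = t := by
    rw [pdim, natDim, topologicalKrullDim_closure_singleton, hh]; rfl
  rw [hp]; exact ⟨hh, ht⟩

include f in
theorem dim_eq_pdim_genericPoint [IrreducibleSpace X] : dim X = pdim X (genericPoint X) := by
  have h := topologicalKrullDim_eq_trdeg f _ (height_eq f (genericPoint X)).2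
  rw [dim, natDim, h]; rfl

include f in
theorem pdim_le_dim [IrreducibleSpace X] (ξ : X) : pdim X ξ ≤ dim X := by
  have h : Order.height ξ ≤ Order.height (genericPoint X) :=
    Order.height_mono (Scheme.le_iff_specializes.2 (genericPoint_specializes ξ))
  rw [(height_eq f ξ).1, (height_eq f _).1, ← dim_eq_pdim_genericPoint f] at h
  exact_mod_cast h

include f in
theorem pdim_eq_of_residueDegree_ne_zero (g : Y ⟶ X) (pY : Y ⟶ Spec (CommRingCat.of k)) [LocallyOfFiniteType pY]
    (hg : g ≫ f = pY) (y : Y) (h : g.residueDegree y ≠ 0) : pdim Y y = pdim X (g y) := by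
  have h0 : resTrdegAt g y = 0 := by
    unfold Scheme.Hom.residueDegree at h
    letI := (g.residueFieldMap y).hom.toAlgebra
    haveI : Module.Finite (X.residueField (g y)) (Y.residueField y) :=
      Module.finite_of_finrank_pos (Nat.pos_of_ne_zero h)
    exact trdeg_eq_zero
  have h1 := (height_eq pY y).2
  rw [← FlatDim.resTrdegAt_congr hg y, FlatDim.resTrdegAt_comp, h0, add_zero, (height_eq f (g y)).2] at h1
  exact_mod_cast h1.symm

include f in
theorem isClosed_iff_pdim_eq_zero (x : X) : IsClosed ({x} : Set X) ↔ pdim X x = 0 := by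
  constructor
  · intro hx
    have h0 : Order.height x = 0 := Order.height_eq_zero.2 fun w hw => by
      have h1 : w = x := (Scheme.le_iff_specializes.1 hw).mem_closed hx rfl
      rw [h1]
    rw [(height_eq f x).1] at h0
    exact_mod_cast h0
  · intro hp
    have h0 : IsMin x := Order.height_eq_zero.1 (by rw [(height_eq f x).1, hp]; rfl)
    refine isClosed_of_closure_subset fun w hw => ?_
    have hxw : x ⤳ w := specializes_iff_mem_closure.2 hw
    exact ((Scheme.le_iff_specializes.1 (h0 (Scheme.le_iff_specializes.2 hxw))).antisymm hxw).eq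

include f in
theorem residueDegree_closed_eq_one [IsAlgClosed k] (x : X) (hx : IsClosed ({x} : Set X)) :
    f.residueDegree x = 1 := by
  have h := (residueDegree_of_comp_eq_id (pointOfClosedPoint f x hx) f (pointOfClosedPoint_comp f x hx)
    (IsLocalRing.closedPoint k)).2
  rwa [pointOfClosedPoint_apply] at h

include f in
theorem delta_eq_pdim (δ : X → ℤ) (hδ : Cyc.DeltaCompat f δ (fun _ => 0)) (x : X) : δ x = pdim X x := by
  obtain ⟨n, hn, h⟩ := hδ x
  have hn' : (pdim X x : Cardinal.{u}) = n := (height_eq f x).2.symm.trans hn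
  have e : pdim X x = n := by exact_mod_cast hn'
  rw [h, e, zero_add]

end Groth.Agent.WeilCohLib
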