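import Mathlib
import Groth.Prelude.Def_WeilCoh
import Groth.Agent.WeilCohLib.Geom
import Groth.Agent.DVRCrit.Scheme
import Groth.Agent.S11991

/-!
The geometric Frobenius endomorphism of the base change of a scheme over a finite field: residue fields,
residue degrees.
-/

set_option autoImplicit false
set_option linter.style.haveILetI false
set_option linter.unusedSectionVars false

universe u

noncomputable section

open AlgebraicGeometry CategoryTheory WeilCoh Groth.Agent.DimFormulaLib

namespace Groth.Agent.WeilCohLib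

/-- Morphisms from the spectrum of a field are determined after a field extension. -/
theorem spec_field_cancel {M L : Type u} [Field M] [Field L] (i : M →+* L) {S : Scheme.{u}}
    (g₁ g₂ : Spec (CommRingCat.of M) ⟶ S)
    (h : Spec.map (CommRingCat.ofHom i) ≫ g₁ = Spec.map (CommRingCat.ofHom i) ≫ g₂) : g₁ = g₂ := by
  obtain ⟨⟨x₁, h₁⟩, rfl⟩ := (Scheme.SpecToEquivOfField M S).symm.surjective g₁
  obtain ⟨⟨x₂, h₂⟩, rfl⟩ := (Scheme.SpecToEquivOfField M S).symm.surjective g₂
  have h' : (Scheme.SpecToEquivOfField L S).symm ⟨x₁, h₁ ≫ CommRingCat.ofHom i⟩ =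
      (Scheme.SpecToEquivOfField L S).symm ⟨x₂, h₂ ≫ CommRingCat.ofHom i⟩ := by
    simpa [Scheme.SpecToEquivOfField] using h
  obtain ⟨rfl, h''⟩ := Sigma.mk.inj ((Scheme.SpecToEquivOfField L S).symm.injective h')
  congr 2
  ext a
  exact i.injective (congrArg (fun φ => φ a) (eq_of_heq h''))

section Pullback

variable {S X Y Z : Scheme.{u}} {π : Z ⟶ X} {g : Z ⟶ Y} {f : X ⟶ S} {b : Y ⟶ S}

/-- The residue field of a point of a fibre product is generated by those of its images. -/
theorem residueField_closure_eq_top (h : IsPullback π g f b) (z : Z) :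
    Subfield.closure (Set.range (π.residueFieldMap z) ∪ Set.range (g.residueFieldMap z)) = ⊤ := by
  set M := Subfield.closure (Set.range (π.residueFieldMap z) ∪ Set.range (g.residueFieldMap z))
  let i : M →+* Z.residueField z := M.subtype
  let a : X.residueField (π z) ⟶ CommRingCat.of M := CommRingCat.ofHom
    ((π.residueFieldMap z).hom.codRestrict M fun x => Subfield.subset_closure (Or.inl ⟨x, rfl⟩))
  let c : Y.residueField (g z) ⟶ CommRingCat.of M := CommRingCat.ofHom
    ((g.residueFieldMap z).hom.codRestrict M fun x => Subfield.subset_closure (Or.inr ⟨x, rfl⟩))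
  have ha : Spec.map (CommRingCat.ofHom i) ≫ Spec.map a ≫ X.fromSpecResidueField (π z) =
      Z.fromSpecResidueField z ≫ π := by
    rw [← Spec.map_comp_assoc, show a ≫ CommRingCat.ofHom i = π.residueFieldMap z from rfl]
    exact π.SpecMap_residueFieldMap_fromSpecResidueField z
  have hc : Spec.map (CommRingCat.ofHom i) ≫ Spec.map c ≫ Y.fromSpecResidueField (g z) =
      Z.fromSpecResidueField z ≫ g := by
    rw [← Spec.map_comp_assoc, show c ≫ CommRingCat.ofHom i = g.residueFieldMap z from rfl]
    exact g.SpecMap_residueFieldMap_fromSpecResidueField z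
  have w : (Spec.map a ≫ X.fromSpecResidueField (π z)) ≫ f = (Spec.map c ≫ Y.fromSpecResidueField (g z)) ≫ b := by
    refine spec_field_cancel i _ _ ?_
    rw [← Category.assoc, ← Category.assoc _ _ b, ha, hc, Category.assoc, Category.assoc, h.w]
  have hl : Spec.map (CommRingCat.ofHom i) ≫ h.lift _ _ w = Z.fromSpecResidueField z := by
    apply h.hom_ext
    · rw [Category.assoc, h.lift_fst, ha]
    · rw [Category.assoc, h.lift_snd, hc]
  obtain ⟨⟨z', m⟩, hm⟩ := (Scheme.SpecToEquivOfField M Z).symm.surjective (h.lift _ _ w)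
  have h' : (Scheme.SpecToEquivOfField (Z.residueField z) Z).symm ⟨z', m ≫ CommRingCat.ofHom i⟩ =
      (Scheme.SpecToEquivOfField (Z.residueField z) Z).symm ⟨z, 𝟙 (Z.residueField z)⟩ := by
    rw [← hm] at hl
    simp [Scheme.SpecToEquivOfField] at hl ⊢
    exact hl.trans (Category.id_comp _).symm
  obtain ⟨rfl, h''⟩ := Sigma.mk.inj ((Scheme.SpecToEquivOfField (Z.residueField z) Z).symm.injective h')
  refine eq_top_iff.2 fun x _ => ?_
  have hx : i (m x) = x := congrArg (fun φ => φ x) (eq_of_heq h'')
  rw [← hx]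
  exact (m x).2

end Pullback

theorem range_residueFieldMap_congr {X Y : Scheme.{u}} {f g : X ⟶ Y} (h : f = g) (x : X) :
    Set.range (f.residueFieldMap x) = Set.range (g.residueFieldMap x) := by subst h; rfl

theorem range_residueFieldMap_comp {X Y Z : Scheme.{u}} (f : X ⟶ Y) (g : Y ⟶ Z) (x : X) :
    Set.range ((f ≫ g).residueFieldMap x) = f.residueFieldMap x '' Set.range (g.residueFieldMap (f x)) := by
  rw [Scheme.residueFieldMap_comp, ← Set.range_comp]
  rfl

/-- A Frobenius endomorphism has as residue field image the powers. -/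
theorem range_residueFieldMap_frob {X : Scheme.{u}} (FX : X ⟶ X) (q : ℕ) (hFb : FX.base = 𝟙 _)
    (hle : ∀ U : X.Opens, U ≤ FX ⁻¹ᵁ U)
    (hFapp : ∀ (U : X.Opens) (s : Γ(X, U)), (FX.appLE U U (hle U)).hom s = s ^ q) (x : X) :
    Set.range (FX.residueFieldMap x) = Set.range fun a : X.residueField x => a ^ q := by
  have hx : FX x = x := congrArg (fun φ => φ x) hFb
  have key : ∀ (U : X.Opens) (h1 : x ∈ U) (h2 : FX x ∈ U) (s : Γ(X, U)),
      FX.residueFieldMap x (X.evaluation U (FX x) h2 s) = X.evaluation U x h1 s ^ q := by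
    intro U h1 h2 s
    rw [← map_pow, ← hFapp U s, Scheme.evaluation_naturality_apply FX x h2 s]
    show X.residue x (X.presheaf.germ (FX ⁻¹ᵁ U) x h2 (FX.app U s)) =
      X.residue x (X.presheaf.germ U x h1 (X.presheaf.map (homOfLE (hle U)).op (FX.app U s)))
    rw [TopCat.Presheaf.germ_res_apply]
  apply Set.Subset.antisymm
  · rintro _ ⟨u, rfl⟩
    obtain ⟨t, rfl⟩ := X.residue_surjective (FX x) u
    obtain ⟨U, hU, s, rfl⟩ := X.presheaf.exists_germ_eq t
    exact ⟨X.evaluation U x (hx ▸ hU) s, (key U (hx ▸ hU) hU s).symm⟩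
  · rintro _ ⟨a, rfl⟩
    obtain ⟨t, rfl⟩ := X.residue_surjective x a
    obtain ⟨U, hU, s, rfl⟩ := X.presheaf.exists_germ_eq t
    exact ⟨X.evaluation U (FX x) (hx.symm ▸ hU) s, key U hU (hx.symm ▸ hU) s⟩

variable (k₀ : Type u) [Field k₀] [Finite k₀] (k : Type u) [Field k] [IsAlgClosed k] [Algebra k₀ k]

include k₀ in
theorem exists_prime_card : ∃ (p e : ℕ), p.Prime ∧ CharP k p ∧ 0 < e ∧ Nat.card k₀ = p ^ e := by
  obtain ⟨p, hc⟩ := CharP.exists k₀
  haveI := Fintype.ofFinite k₀
  obtain ⟨n, hp, hn⟩ := FiniteField.card k₀ p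
  exact ⟨p, n, hp, (RingHom.charP_iff (algebraMap k₀ k) (algebraMap k₀ k).injective p).1 hc, n.pos,
    Nat.card_eq_fintype_card.trans hn⟩

variable {X Z : Scheme.{u}} {g : Z ⟶ Spec (CommRingCat.of k)} [LocallyOfFiniteType g]
  {π : Z ⟶ X} {f : X ⟶ Spec (CommRingCat.of k₀)}

/-- The residue degree of the geometric Frobenius. -/
theorem residueDegree_frob (hπ : IsPullback π g f (Spec.map (CommRingCat.ofHom (algebraMap k₀ k))))
    (FX : X ⟶ X) (hFb : FX.base = 𝟙 _) (hle : ∀ U : X.Opens, U ≤ FX ⁻¹ᵁ U)
    (hFapp : ∀ (U : X.Opens) (s : Γ(X, U)), (FX.appLE U U (hle U)).hom s = s ^ Nat.card k₀)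
    (F : Z ⟶ Z) (hFg : F ≫ g = g) (hF : F ≫ π = π ≫ FX) (z : Z) :
    F.residueDegree z = Nat.card k₀ ^ pdim Z z := by
  obtain ⟨p, e, hp, hc, -, hq⟩ := exists_prime_card k₀ k
  haveI := Fact.mk hp
  let L := Z.residueField z
  let ψ₀ : k →+* (Spec (CommRingCat.of k)).residueField (g z) :=
    ((Spec (CommRingCat.of k)).Γevaluation (g z)).hom.comp (Scheme.ΓSpecIso (CommRingCat.of k)).inv.hom
  have hψ₀ : Function.Surjective ψ₀ := evaluation_surjective k (g z)
  let ψ : k →+* L := (g.residueFieldMap z).hom.comp ψ₀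
  have hC : Set.range (g.residueFieldMap z) = Set.range ψ :=
    (hψ₀.range_comp (g.residueFieldMap z)).symm
  letI aL : Algebra k L := ψ.toAlgebra
  haveI : CharP L p := (RingHom.charP_iff ψ ψ.injective p).1 hc
  haveI : ExpChar L p := .prime hp
  haveI : ExpChar k p := .prime hp
  haveI : PerfectField k := IsAlgClosed.perfectField k
  -- the subfield generated by the powers
  set R := Set.range (π.residueFieldMap z) with hR
  have hgen : Subfield.closure (R ∪ Set.range (g.residueFieldMap z)) = ⊤ := residueField_closure_eq_top hπ z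
  have hgen' : Subfield.closure (Set.range (π.residueFieldMap (F z)) ∪ Set.range (g.residueFieldMap (F z))) = ⊤ :=
    residueField_closure_eq_top hπ (F z)
  have hM : (F.residueFieldMap z).hom.fieldRange = (iterateFrobenius L p e).fieldRange := by
    rw [RingHom.fieldRange_eq_map, RingHom.fieldRange_eq_map, ← hgen, ← hgen', RingHom.map_field_closure,
      RingHom.map_field_closure, Set.image_union, Set.image_union]
    have e1 : (F.residueFieldMap z).hom '' Set.range (π.residueFieldMap (F z)) =
        (iterateFrobenius L p e) '' R := by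
      refine (range_residueFieldMap_comp F π z).symm.trans ?_
      rw [range_residueFieldMap_congr hF z, range_residueFieldMap_comp π FX z,
        range_residueFieldMap_frob FX _ hFb hle hFapp (π z), ← Set.range_comp, hR, ← Set.range_comp]
      congr 1
      funext a
      simp [iterateFrobenius_def, hq, map_pow]
    have e2 : (F.residueFieldMap z).hom '' Set.range (g.residueFieldMap (F z)) =
        (iterateFrobenius L p e) '' Set.range (g.residueFieldMap z) := by
      refine (range_residueFieldMap_comp F g z).symm.trans ?_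
      rw [range_residueFieldMap_congr hFg z, hC, ← Set.range_comp]
      refine Set.Subset.antisymm ?_ ?_
      · rintro _ ⟨c, rfl⟩
        obtain ⟨d, hd⟩ := (bijective_iterateFrobenius k p e).2 c
        exact ⟨d, by simp [iterateFrobenius_def, ← map_pow] at hd ⊢; rw [hd]⟩
      · rintro _ ⟨c, rfl⟩
        exact ⟨c ^ p ^ e, by simp [iterateFrobenius_def]⟩
    rw [e1, e2]
  have hadj : (IntermediateField.adjoin k (Set.range fun x : L => x ^ p ^ e)).toSubfield =
      (F.residueFieldMap z).hom.fieldRange := by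
    rw [hM, IntermediateField.adjoin_toSubfield]
    refine le_antisymm (Subfield.closure_le.2 ?_) ?_
    · rintro y (⟨c, rfl⟩ | ⟨x, rfl⟩)
      · obtain ⟨d, hd⟩ := (bijective_iterateFrobenius k p e).2 c
        refine ⟨algebraMap k L d, ?_⟩
        rw [iterateFrobenius_def, ← map_pow]
        rw [iterateFrobenius_def] at hd
        rw [hd]
      · exact ⟨x, iterateFrobenius_def ..⟩
    · rintro _ ⟨x, rfl⟩
      exact Subfield.subset_closure (Or.inr ⟨x, (iterateFrobenius_def ..).symm⟩)
  -- finite generation and transcendence degree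
  haveI hfg : Algebra.EssFiniteType k L := by
    have h1 : (g.residueFieldMap z).hom.EssFiniteType :=
      RingHom.EssFiniteType.residueFieldMap (LocallyOfFiniteType.stalkMap g z)
    have h0 : ψ₀.EssFiniteType := (RingHom.FiniteType.of_surjective ψ₀ hψ₀).essFiniteType
    exact h0.comp h1
  obtain ⟨t, ht⟩ := IntermediateField.fg_top_iff.2 hfg
  have htr : Algebra.trdeg k L = (pdim Z z : Cardinal.{u}) := by
    rw [← (height_eq g z).2]
    letI := (g.residueFieldMap z).hom.toAlgebra
    letI := ψ₀.toAlgebra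
    haveI : IsScalarTower k ((Spec (CommRingCat.of k)).residueField (g z)) L := .of_algebraMap_eq fun _ => rfl
    exact (trdeg_of_surjective hψ₀).symm
  obtain ⟨s, hs⟩ := exists_isTranscendenceBasis k L
  have hcard : Cardinal.mk ↥s = (pdim Z z : Cardinal.{u}) := hs.cardinalMk_eq_trdeg.trans htr
  obtain ⟨e'⟩ := (Cardinal.mk_eq_nat_iff (α := ↥s)).1 hcard
  have hreg : ∀ x : L, IsAlgebraic k x → x ∈ Set.range (algebraMap k L) := fun x hx => by
    have h1 := IsAlgClosed.degree_eq_one_of_irreducible k (minpoly.irreducible hx.isIntegral)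
    exact RingHom.mem_range.1 (minpoly.degree_eq_one_iff.1 h1)
  have h := Groth.Agent.S11991.result k L p t ht hreg (pdim Z z) _ (hs.comp_equiv e'.symm) e
  rw [hq, ← h]
  unfold Scheme.Hom.residueDegree
  letI := (F.residueFieldMap z).hom.toAlgebra
  exact Algebra.finrank_eq_of_equiv_equiv
    ((RingEquiv.ofBijective (F.residueFieldMap z).hom.rangeRestrictField
      ⟨(F.residueFieldMap z).hom.rangeRestrictField.injective, (F.residueFieldMap z).hom.rangeRestrictField_bijective.2⟩).trans
        (RingEquiv.subringCongr (congrArg Subfield.toSubring hadj.symm)))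
    (RingEquiv.refl L) rfl

end Groth.Agent.WeilCohLib
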