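import Mathlib
import Groth.Prelude.Def_WeilCoh

/-!
Formal consequences of the axioms of a Weil cohomology theory: Poincaré duality, the push-forward,
Künneth generation of each degree, traces on products.
-/

set_option autoImplicit false

universe u v w

noncomputable section

open AlgebraicGeometry CategoryTheory TensorProduct WeilCoh

namespace Groth.Agent.WeilCohLib

variable {k : Type u} [Field k] {P : ObjectProperty (Over (Spec (CommRingCat.of k)))}
variable {K : Type v} [Field K] (T : TheoryOn.{u, v, w} k P K)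
variable {X Y Z Q : P.FullSubcategory}

/-- The sign of graded commutativity, depending only on the parity of `i * j`. -/
def sgn (K : Type v) [Field K] (i j : ℤ) : K := if Even (i * j) then 1 else -1

theorem neg_one_pow_natAbs_mul (i j : ℤ) : ((-1 : K) ^ (i.natAbs * j.natAbs)) = sgn K i j := by
  rw [sgn, neg_one_pow_eq_ite, ← Int.natAbs_mul]
  simp only [Int.natAbs_even]

theorem sgn_mul_self (i j : ℤ) : sgn K i j * sgn K i j = 1 := by
  rw [sgn]; split <;> simp

theorem sgn_comm (i j : ℤ) : sgn K i j = sgn K j i := by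
  simp only [sgn, mul_comm]

theorem sgn_of_even_left {i : ℤ} (h : Even i) (j : ℤ) : sgn K i j = 1 := by
  rw [sgn, if_pos (h.mul_right j)]

theorem sgn_of_even_right (i : ℤ) {j : ℤ} (h : Even j) : sgn K i j = 1 := by
  rw [sgn, if_pos (h.mul_left i)]

/-- If `i + j` is even the sign is `(-1) ^ i`. -/
theorem sgn_of_add_even {i j : ℤ} (n : ℕ) (hn : Even ((n : ℤ) + i)) (h : Even (i + j)) :
    sgn K i j = (-1 : K) ^ n := by
  rw [sgn, neg_one_pow_eq_ite]
  have hiff : Even (i * j) ↔ Even n := by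
    rw [← Int.even_coe_nat n, Int.even_mul]
    rw [Int.even_add] at hn h
    tauto
  simp only [hiff]

/-- Graded commutativity with `sgn`. -/
theorem mul_comm_sgn (X : P.FullSubcategory) {i j : ℤ} {a b : T.H X} (ha : a ∈ T.gr X i) (hb : b ∈ T.gr X j) :
    a * b = sgn K i j • (b * a) := by
  rw [← neg_one_pow_natAbs_mul]; exact T.gradedComm X i j a b ha hb

theorem tr_comm (X : P.FullSubcategory) {i j : ℤ} {a b : T.H X} (ha : a ∈ T.gr X i) (hb : b ∈ T.gr X j) :
    T.tr X (a * b) = sgn K i j * T.tr X (b * a) := by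
  rw [mul_comm_sgn T X ha hb, map_smul, smul_eq_mul]

theorem mul_mem (X : P.FullSubcategory) {i j l : ℤ} {a b : T.H X} (ha : a ∈ T.gr X i) (hb : b ∈ T.gr X j)
    (h : i + j = l) : a * b ∈ T.gr X l := h ▸ SetLike.mul_mem_graded ha hb

theorem eq_zero_of_mem_of_lt (X : P.FullSubcategory) {i : ℤ} {a : T.H X} (ha : a ∈ T.gr X i)
    (h : i < 0 ∨ 2 * (dim X.obj.left : ℤ) < i) : a = 0 := by
  simpa [T.vanish X i h] using ha

theorem eq_zero_of_mem_mem (X : P.FullSubcategory) {i j : ℤ} {a : T.H X} (hi : a ∈ T.gr X i) (hj : a ∈ T.gr X j)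
    (h : i ≠ j) : a = 0 :=
  Submodule.disjoint_def.1 ((T.decomp X).submodule_iSupIndep.pairwiseDisjoint h) a hi hj

theorem tr_mul_eq_zero (X : P.FullSubcategory) {i j : ℤ} {a b : T.H X} (ha : a ∈ T.gr X i) (hb : b ∈ T.gr X j)
    (h : i + j ≠ 2 * (dim X.obj.left : ℤ)) : T.tr X (a * b) = 0 :=
  T.tr_vanish X (i + j) _ (SetLike.mul_mem_graded ha hb) h

/-- Induction over the homogeneous components. -/
theorem homogeneous_induction (X : P.FullSubcategory) {p : T.H X → Prop} (z : T.H X)
    (h : ∀ i, ∀ a ∈ T.gr X i, p a) (hadd : ∀ a b, p a → p b → p (a + b)) : p z :=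
  Submodule.iSup_induction (T.gr X) (motive := p)
    (by rw [(T.decomp X).submodule_iSup_eq_top]; exact Submodule.mem_top) h
    (h 0 0 (Submodule.zero_mem _)) hadd

theorem commute_even (X : P.FullSubcategory) {i : ℤ} {a : T.H X} (ha : a ∈ T.gr X i) (hi : Even i) (z : T.H X) :
    a * z = z * a := by
  refine homogeneous_induction T X (p := fun z => a * z = z * a) z (fun j b hb => ?_) fun b c hb hc => ?_
  · rw [mul_comm_sgn T X ha hb, sgn_of_even_left hi, one_smul]
  · rw [mul_add, add_mul, hb, hc]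

/-- Poincaré duality: a homogeneous class is determined by its pairings. -/
theorem eq_of_tr (X : P.FullSubcategory) {i j : ℤ} (h : i + j = 2 * (dim X.obj.left : ℤ)) {x y : T.H X}
    (hx : x ∈ T.gr X i) (hy : y ∈ T.gr X i)
    (hb : ∀ b ∈ T.gr X j, T.tr X (x * b) = T.tr X (y * b)) : x = y := by
  haveI := T.duality X i j h
  have he : (⟨x, hx⟩ : T.gr X i) = ⟨y, hy⟩ :=
    (LinearMap.IsPerfPair.bijective_left (pairing K (T.gr X i) (T.gr X j) (T.tr X))).1
      (LinearMap.ext fun b => hb b.1 b.2)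
  exact congrArg Subtype.val he

/-- Poincaré duality: every functional on `H^j` is a pairing. -/
theorem exists_of_functional (X : P.FullSubcategory) {i j : ℤ} (h : i + j = 2 * (dim X.obj.left : ℤ))
    (φ : T.gr X j →ₗ[K] K) : ∃ x : T.gr X i, ∀ b : T.gr X j, T.tr X ((x : T.H X) * b) = φ b := by
  haveI := T.duality X i j h
  obtain ⟨x, hx⟩ := (LinearMap.IsPerfPair.bijective_left (pairing K (T.gr X i) (T.gr X j) (T.tr X))).2 φ
  exact ⟨x, fun b => LinearMap.congr_fun hx b⟩

/-- The defining property of the push-forward. -/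
theorem push_spec (f : X ⟶ Y) (i : ℤ) (a : T.gr X i) {j : ℤ} (hj : j = 2 * (dim X.obj.left : ℤ) - i)
    {b : T.H Y} (hb : b ∈ T.gr Y j) :
    T.tr Y ((T.push f i a : T.H Y) * b) = T.tr X ((a : T.H X) * T.pull f b) := by
  subst hj
  haveI := T.duality Y (i + 2 * (dim Y.obj.left : ℤ) - 2 * (dim X.obj.left : ℤ))
    (2 * (dim X.obj.left : ℤ) - i) (by omega)
  exact LinearMap.congr_fun ((pairing K (T.gr Y (i + 2 * (dim Y.obj.left : ℤ) - 2 * (dim X.obj.left : ℤ)))
    (T.gr Y (2 * (dim X.obj.left : ℤ) - i)) (T.tr Y)).apply_symm_toPerfPair_self (T.pushFunctional f i a)) ⟨b, hb⟩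

/-- Characterisation of the push-forward. -/
theorem push_eq (f : X ⟶ Y) (i : ℤ) (a : T.gr X i) {c : T.H Y}
    (hc : c ∈ T.gr Y (i + 2 * (dim Y.obj.left : ℤ) - 2 * (dim X.obj.left : ℤ)))
    (h : ∀ b ∈ T.gr Y (2 * (dim X.obj.left : ℤ) - i), T.tr Y (c * b) = T.tr X ((a : T.H X) * T.pull f b)) :
    (T.push f i a : T.H Y) = c :=
  eq_of_tr T Y (j := 2 * (dim X.obj.left : ℤ) - i) (by omega) (T.push f i a).2 hc fun b hb => by rw [push_spec T f i a rfl hb, h b hb]

theorem exists_top (X : P.FullSubcategory) :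
    ∃ t ∈ T.gr X (2 * (dim X.obj.left : ℤ)), T.tr X t = 1 := by
  obtain ⟨⟨t, ht⟩, h⟩ := (T.tr_bijective X).2 1
  exact ⟨t, ht, h⟩

theorem one_ne_zero' (X : P.FullSubcategory) : (1 : T.H X) ≠ 0 := by
  intro h
  obtain ⟨t, -, ht⟩ := exists_top T X
  rw [← mul_one t, h, mul_zero, map_zero] at ht
  exact zero_ne_one ht

theorem top_eq (X : P.FullSubcategory) {x t : T.H X} (hx : x ∈ T.gr X (2 * (dim X.obj.left : ℤ)))
    (ht : t ∈ T.gr X (2 * (dim X.obj.left : ℤ))) (h1 : T.tr X t = 1) : x = T.tr X x • t := by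
  have h := @(T.tr_bijective X).1 ⟨x, hx⟩ ⟨T.tr X x • t, Submodule.smul_mem _ _ ht⟩
    (by simp [LinearMap.domRestrict_apply, h1])
  exact congrArg Subtype.val h

theorem degree_zero_eq (X : P.FullSubcategory) {x : T.H X} (hx : x ∈ T.gr X 0) : ∃ c : K, x = c • 1 := by
  obtain ⟨t, ht, h1⟩ := exists_top T X
  refine ⟨T.tr X (x * t), eq_of_tr T X (zero_add _) hx (Submodule.smul_mem _ _ (SetLike.one_mem_graded _)) fun b hb => ?_⟩
  conv_lhs => rw [top_eq T X hb ht h1, mul_smul_comm, map_smul, smul_eq_mul]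
  rw [smul_one_mul, map_smul, smul_eq_mul, mul_comm]

section Product

variable (p : Q ⟶ X) (q : Q ⟶ Y) (hQ : IsProd p q)

include T hQ in
/-- The dimension of a product, from Künneth and the trace of a product. -/
theorem dim_prod : (dim Q.obj.left : ℤ) = dim X.obj.left + dim Y.obj.left := by
  obtain ⟨t, ht, h1⟩ := exists_top T X
  obtain ⟨s, hs, h2⟩ := exists_top T Y
  have h := T.tr_prod p q hQ t s ht hs
  rw [h1, h2, mul_one] at h
  by_contra hne
  rw [T.tr_vanish Q _ _ (mul_mem T Q (T.pull_mem p _ t ht) (T.pull_mem q _ s hs) rfl) (by omega)] at h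
  exact zero_ne_one h

include hQ in
/-- The trace on a product is multiplicative on all classes. -/
theorem tr_kunneth (x : T.H X) (y : T.H Y) :
    T.tr Q (T.pull p x * T.pull q y) = T.tr X x * T.tr Y y := by
  refine homogeneous_induction T X (p := fun x => T.tr Q (T.pull p x * T.pull q y) = T.tr X x * T.tr Y y) x
    (fun s x hx => ?_) fun a b ha hb => by simp only [map_add, add_mul, ha, hb]
  refine homogeneous_induction T Y (p := fun y => T.tr Q (T.pull p x * T.pull q y) = T.tr X x * T.tr Y y) y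
    (fun t y hy => ?_) fun a b ha hb => by simp only [map_add, mul_add, ha, hb]
  have hd := dim_prod T p q hQ
  by_cases hs : s = 2 * (dim X.obj.left : ℤ)
  · by_cases ht : t = 2 * (dim Y.obj.left : ℤ)
    · exact T.tr_prod p q hQ x y (hs ▸ hx) (ht ▸ hy)
    · rw [tr_mul_eq_zero T Q (T.pull_mem p s x hx) (T.pull_mem q t y hy) (by omega),
        T.tr_vanish Y t y hy ht, mul_zero]
  · rw [T.tr_vanish X s x hx hs, zero_mul]
    by_cases hst : s + t = 2 * (dim Q.obj.left : ℤ)
    · rcases lt_or_gt_of_ne hs with h | h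
      · rw [eq_zero_of_mem_of_lt T Y hy (Or.inr (by omega)), map_zero, mul_zero, map_zero]
      · rw [eq_zero_of_mem_of_lt T X hx (Or.inr h), map_zero, zero_mul, map_zero]
    · exact tr_mul_eq_zero T Q (T.pull_mem p s x hx) (T.pull_mem q t y hy) hst

/-- The span of the products of homogeneous pull-backs of total degree `m`. -/
def kunnethPiece (m : ℤ) : Submodule K (T.H Q) :=
  Submodule.span K {z | ∃ s t : ℤ, s + t = m ∧ ∃ x ∈ T.gr X s, ∃ y ∈ T.gr Y t, z = T.pull p x * T.pull q y}

theorem kunnethPiece_le (m : ℤ) : kunnethPiece T p q m ≤ T.gr Q m := by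
  refine Submodule.span_le.2 ?_
  rintro z ⟨s, t, h, x, hx, y, hy, rfl⟩
  exact mul_mem T Q (T.pull_mem p s x hx) (T.pull_mem q t y hy) h

include hQ in
theorem iSup_kunnethPiece : ⨆ m, kunnethPiece T p q m = ⊤ := by
  refine Submodule.eq_top_iff'.2 fun z => ?_
  obtain ⟨w, rfl⟩ := (T.kunneth p q hQ).2 z
  induction w using TensorProduct.induction_on with
  | zero => rw [map_zero]; exact Submodule.zero_mem _
  | add a b ha hb => rw [map_add]; exact Submodule.add_mem _ ha hb
  | tmul x y =>
    rw [kunnethMap, TensorProduct.lift.tmul]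
    change T.pull p x * T.pull q y ∈ _
    refine homogeneous_induction T X (p := fun x => T.pull p x * T.pull q y ∈ _) x
      (fun s x hx => ?_) fun a b ha hb => by rw [map_add, add_mul]; exact Submodule.add_mem _ ha hb
    refine homogeneous_induction T Y (p := fun y => T.pull p x * T.pull q y ∈ _) y
      (fun t y hy => ?_) fun a b ha hb => by rw [map_add, mul_add]; exact Submodule.add_mem _ ha hb
    exact Submodule.mem_iSup_of_mem (s + t) (Submodule.subset_span ⟨s, t, rfl, x, hx, y, hy, rfl⟩)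

include hQ in
/-- Künneth in each degree. -/
theorem kunnethPiece_eq (m : ℤ) : kunnethPiece T p q m = T.gr Q m := by
  refine le_antisymm (kunnethPiece_le T p q m) fun z hz => ?_
  have hmem : z ∈ kunnethPiece T p q m ⊔ ⨆ (n) (_ : n ≠ m), kunnethPiece T p q n := by
    rw [← iSup_split_single, iSup_kunnethPiece T p q hQ]; exact Submodule.mem_top
  obtain ⟨a, ha, b, hb, rfl⟩ := Submodule.mem_sup.1 hmem
  have hb1 : b ∈ ⨆ (n) (_ : n ≠ m), T.gr Q n :=
    iSup₂_mono (fun n _ => kunnethPiece_le T p q n) hb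
  have hb2 : b ∈ T.gr Q m := by
    simpa using Submodule.sub_mem _ hz (kunnethPiece_le T p q m ha)
  rw [Submodule.disjoint_def.1 ((T.decomp Q).submodule_iSupIndep m) b hb2 hb1, add_zero]
  exact ha

include hQ in
/-- Induction on a homogeneous class of a product. -/
theorem gr_prod_induction (m : ℤ) {motive : T.gr Q m → Prop}
    (gen : ∀ (s t : ℤ) (x : T.H X) (y : T.H Y) (hx : x ∈ T.gr X s) (hy : y ∈ T.gr Y t) (h : s + t = m),
      motive ⟨T.pull p x * T.pull q y, mul_mem T Q (T.pull_mem p s x hx) (T.pull_mem q t y hy) h⟩)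
    (zero : motive 0) (add : ∀ a b, motive a → motive b → motive (a + b))
    (smul : ∀ (c : K) a, motive a → motive (c • a)) (z : T.gr Q m) : motive z := by
  obtain ⟨z, hz⟩ := z
  have hz' := hz
  rw [← kunnethPiece_eq T p q hQ] at hz'
  induction hz' using Submodule.span_induction with
  | mem w hw =>
    obtain ⟨s, t, h, x, hx, y, hy, rfl⟩ := hw
    exact gen s t x y hx hy h
  | zero => exact zero
  | add a b ha hb iha ihb =>
    exact add ⟨a, kunnethPiece_le T p q m ha⟩ ⟨b, kunnethPiece_le T p q m hb⟩ (iha _) (ihb _)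
  | smul c a ha iha => exact smul c ⟨a, kunnethPiece_le T p q m ha⟩ (iha _)

include hQ in
/-- A class on a product is determined by its pairings with pulled-back products. -/
theorem eq_of_tr_kunneth {m m' : ℤ} (h : m + m' = 2 * (dim Q.obj.left : ℤ)) {φ ψ : T.H Q}
    (hφ : φ ∈ T.gr Q m) (hψ : ψ ∈ T.gr Q m)
    (hb : ∀ (s t : ℤ) (x : T.H X) (y : T.H Y), x ∈ T.gr X s → y ∈ T.gr Y t → s + t = m' →
      T.tr Q (φ * (T.pull p x * T.pull q y)) = T.tr Q (ψ * (T.pull p x * T.pull q y))) : φ = ψ := by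
  refine eq_of_tr T Q h hφ hψ fun b hb' => ?_
  refine gr_prod_induction T p q hQ m' (motive := fun b => T.tr Q (φ * b) = T.tr Q (ψ * b))
    (fun s t x y hx hy h => hb s t x y hx hy h) (by simp)
    (fun a b ha hb => by simp only [Submodule.coe_add, mul_add, map_add, ha, hb])
    (fun c a ha => by simp only [Submodule.coe_smul, mul_smul_comm, map_smul, ha]) ⟨b, hb'⟩

include hQ in
/-- The push-forward along the second projection of a decomposable class. -/
theorem push_snd_kunneth (m : ℤ) (a : T.gr Q m) {u : T.H X} {v : T.H Y} {s t : ℤ}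
    (hu : u ∈ T.gr X s) (hv : v ∈ T.gr Y t) (hst : s + t = m) (ha : (a : T.H Q) = T.pull p u * T.pull q v) :
    (T.push q m a : T.H Y) = T.tr X u • v := by
  have hd := dim_prod T p q hQ
  refine push_eq T q m a ?_ fun b hb => ?_
  · by_cases hs : s = 2 * (dim X.obj.left : ℤ)
    · exact Submodule.smul_mem _ _ ((show t = m + 2 * (dim Y.obj.left : ℤ) - 2 * (dim Q.obj.left : ℤ) by omega) ▸ hv)
    · rw [T.tr_vanish X s u hu hs, zero_smul]; exact Submodule.zero_mem _
  · rw [ha, mul_assoc, ← map_mul, tr_kunneth T p q hQ, smul_mul_assoc, map_smul, smul_eq_mul]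

include hQ in
/-- The push-forward along the first projection of a class pulled back from the second factor. -/
theorem push_fst_pull_snd (i : ℤ) (a : T.gr Q i) {v : T.H Y} (hv : v ∈ T.gr Y i) (ha : (a : T.H Q) = T.pull q v) :
    (T.push p i a : T.H X) = T.tr Y v • 1 := by
  have hd := dim_prod T p q hQ
  refine push_eq T p i a ?_ fun b hb => ?_
  · by_cases hi : i = 2 * (dim Y.obj.left : ℤ)
    · exact Submodule.smul_mem _ _ ((show (0 : ℤ) = i + 2 * (dim X.obj.left : ℤ) - 2 * (dim Q.obj.left : ℤ) by omega) ▸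
        SetLike.one_mem_graded (T.gr X))
    · rw [T.tr_vanish Y i v hv hi, zero_smul]; exact Submodule.zero_mem _
  · rw [ha, tr_comm T Q (T.pull_mem q i v hv) (T.pull_mem p _ b hb), tr_kunneth T p q hQ, smul_one_mul,
      map_smul, smul_eq_mul]
    by_cases hi : i = 2 * (dim Y.obj.left : ℤ)
    · rw [sgn_of_even_left (hi ▸ even_two_mul _), one_mul, mul_comm]
    · rw [T.tr_vanish Y i v hv hi]; ring

end Product

end Groth.Agent.WeilCohLib
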