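import Mathlib
import Groth.Prelude.Def_WeilCoh
import Groth.Agent.WeilCohLib.Alg
import Groth.Agent.WeilCohLib.Geom
import Groth.Agent.ASp.PropDescend

/-!
The point as an object, the class of the whole variety, classes of closed points and of graphs, the
push-forward of classes.
-/

set_option autoImplicit false
set_option linter.style.haveILetI false
set_option linter.unusedSectionVars false

universe u v

noncomputable section

open AlgebraicGeometry CategoryTheory WeilCoh

namespace Groth.Agent.WeilCohLib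

variable {k : Type u} [Field k]

instance instVarSmooth (X : Var k) : Smooth X.obj.hom := X.property.1
instance instVarLFT (X : Var k) : LocallyOfFiniteType X.obj.hom := inferInstance
instance instVarIrreducible (X : Var k) : IrreducibleSpace ↥X.obj.left := X.property.2.2

instance instVarReduced (X : Var k) : IsReduced X.obj.left := by
  haveI : IsReduced (Spec (CommRingCat.of k)) := inferInstance
  exact Groth.Agent.ASp.isReduced_of_smooth X.obj.hom

instance instVarIntegral (X : Var k) : IsIntegral X.obj.left := isIntegral_of_irreducibleSpace_of_isReduced _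

theorem sm_comp_hom {X Y : Var k} (f : X ⟶ Y) : sm f ≫ Y.obj.hom = X.obj.hom := Over.w f.hom

theorem sm_comp_eq {X Y : Var k} {j : X ⟶ Y} {p : Y ⟶ X} (h : j ≫ p = 𝟙 X) : sm j ≫ sm p = 𝟙 X.obj.left :=
  congrArg (fun g : X ⟶ X => g.hom.left) h

theorem pdim_image_eq {X Y : Var k} (j : X ⟶ Y) (x : X.obj.left) (h : (sm j).residueDegree x ≠ 0) :
    pdim X.obj.left x = pdim Y.obj.left (sm j x) :=
  pdim_eq_of_residueDegree_ne_zero Y.obj.hom (sm j) X.obj.hom (sm_comp_hom j) x h

theorem pdim_section {X Y : Var k} {j : X ⟶ Y} {p : Y ⟶ X} (h : j ≫ p = 𝟙 X) (x : X.obj.left) :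
    pdim Y.obj.left (sm j x) = pdim X.obj.left x :=
  (pdim_image_eq j x (by rw [(residueDegree_of_comp_eq_id _ _ (sm_comp_eq h) x).1]; exact one_ne_zero)).symm

theorem residueDegree_section {X Y : Var k} {j : X ⟶ Y} {p : Y ⟶ X} (h : j ≫ p = 𝟙 X) (x : X.obj.left) :
    (sm j).residueDegree x = 1 := (residueDegree_of_comp_eq_id _ _ (sm_comp_eq h) x).1

variable [IsAlgClosed k]

theorem exists_closed_point (X : Var k) : ∃ x : X.obj.left, IsClosed ({x} : Set X.obj.left) := by
  haveI : JacobsonSpace ↥X.obj.left := LocallyOfFiniteType.jacobsonSpace X.obj.hom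
  obtain ⟨x, -, hx⟩ := nonempty_inter_closedPoints (Z := (Set.univ : Set X.obj.left)) Set.univ_nonempty
    isClosed_univ.isLocallyClosed
  exact ⟨x, hx⟩

theorem isVar_point (X : Var k) : IsVar k (Over.mk (𝟙 (Spec (CommRingCat.of k)))) := by
  refine ⟨?_, ?_, ?_⟩
  · change Smooth (𝟙 (Spec (CommRingCat.of k)))
    infer_instance
  · obtain ⟨n, i, -, hi⟩ := X.property.2.1
    obtain ⟨x, hx⟩ := exists_closed_point X
    refine ⟨n, pointOfClosedPoint X.obj.hom x hx ≫ i, isClosedImmersion_of_comp_eq_id
      (CohB1.ProjSpaceOver.toBase n (Spec (CommRingCat.of k))) _ ?_, ?_⟩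
    all_goals
      rw [Category.assoc, hi]
      exact pointOfClosedPoint_comp X.obj.hom x hx
  · change IrreducibleSpace (PrimeSpectrum k)
    infer_instance

/-- The point, as an object. -/
def pt (X : Var k) : Var k := ⟨Over.mk (𝟙 (Spec (CommRingCat.of k))), isVar_point X⟩

/-- The map to the point. -/
def toPt (X : Var k) : X ⟶ pt X := ObjectProperty.homMk (Over.homMk X.obj.hom (Category.comp_id _))

theorem sm_toPt (X : Var k) : sm (toPt X) = X.obj.hom := rfl

instance subsingleton_pt (X : Var k) : Subsingleton ↥(pt X).obj.left :=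
  inferInstanceAs (Subsingleton (PrimeSpectrum k))

theorem dim_pt (X : Var k) : dim (pt X).obj.left = 0 := by
  rw [dim_eq_pdim_genericPoint (pt X).obj.hom]
  exact (isClosed_iff_pdim_eq_zero (pt X).obj.hom _).1 (isClosed_discrete _)

variable {K : Type v} [Field K] [CharZero K] (T : Theory k K)

theorem tr_cl_closed (X : Var k) (x : X.obj.left) (hx : IsClosed ({x} : Set X.obj.left)) :
    T.tr X (T.cl X x) = 1 := by
  have hp : pdim X.obj.left x = 0 := (isClosed_iff_pdim_eq_zero X.obj.hom x).1 hx
  have h1 : (1 : T.H (pt X)) ∈ T.gr (pt X) (2 * (pdim X.obj.left x : ℤ)) := by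
    rw [hp, Nat.cast_zero, mul_zero]; exact SetLike.one_mem_graded (T.gr (pt X))
  have h := T.cl_push (toPt X) x 1 h1
  have hd : (sm (toPt X)).residueDegree x = 1 := residueDegree_closed_eq_one X.obj.hom x hx
  rwa [map_one, mul_one, hd, Nat.cast_one, one_mul, (T.point (pt X) (dim_pt X)).1, mul_one,
    (T.point (pt X) (dim_pt X)).2] at h

theorem preimMult_genericPoint (X : Var k) (ξ : (pt X).obj.left)
    (h : sm (toPt X) (genericPoint X.obj.left) ∈ closure ({ξ} : Set (pt X).obj.left)) :
    preimMult (sm (toPt X)) ξ (genericPoint X.obj.left) h = 1 := by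
  have hF : IsField ((pt X).obj.left.presheaf.stalk (sm (toPt X) (genericPoint X.obj.left))) :=
    (Groth.Agent.DimFormulaLib.isField_stalk k _).1
  have hker : RingHom.ker (Cyc.specMap (sm (toPt X) (genericPoint X.obj.left)) ξ (specializes_iff_mem_closure.mpr h)) = ⊥ := by
    letI := hF.toField
    exact (RingHom.ker _).eq_bot_or_top.resolve_right (RingHom.ker_ne_top _)
  rw [preimMult, hker, Ideal.map_bot]
  have e : Module.length (X.obj.left.presheaf.stalk (genericPoint X.obj.left))
      (X.obj.left.presheaf.stalk (genericPoint X.obj.left) ⧸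
        (⊥ : Ideal (X.obj.left.presheaf.stalk (genericPoint X.obj.left)))) = 1 := by
    rw [(Submodule.quotEquivOfEqBot _ rfl).length_eq]
    haveI : IsSimpleModule X.obj.left.functionField X.obj.left.functionField := inferInstance
    exact (Module.length_eq_one X.obj.left.functionField X.obj.left.functionField : _)
  rw [e]; rfl

theorem cl_genericPoint (X : Var k) : T.cl X (genericPoint X.obj.left) = 1 := by
  set ξ : (pt X).obj.left := sm (toPt X) (genericPoint X.obj.left) with hξ
  have huniv : (sm (toPt X)) ⁻¹' closure ({ξ} : Set (pt X).obj.left) = Set.univ :=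
    Set.eq_univ_of_forall fun x => subset_closure (Subsingleton.elim (sm (toPt X) x) ξ)
  have hw : ∀ w, IsCompPt ((sm (toPt X)) ⁻¹' closure ({ξ} : Set (pt X).obj.left)) w ↔ w = genericPoint X.obj.left := by
    intro w
    rw [huniv]
    refine ⟨fun h => (h.2 _ trivial (genericPoint_specializes w)).symm, ?_⟩
    rintro rfl
    exact ⟨trivial, fun w' _ hw' => (hw'.antisymm (genericPoint_specializes w')).eq⟩
  have h := T.cl_pull (toPt X) ξ (fun w hw' => by
      rw [(hw w).1 hw', ← dim_eq_pdim_genericPoint X.obj.hom, dim_pt,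
        (isClosed_iff_pdim_eq_zero (pt X).obj.hom ξ).1 (isClosed_discrete _)]
      omega)
    (Or.inl ⟨⊤, fun _ _ => trivial, by
      haveI : Flat (sm (toPt X)) := by rw [sm_toPt]; infer_instance
      exact IsZariskiLocalAtTarget.restrict (P := @Flat) ‹_› ⊤⟩)
  rw [(T.point (pt X) (dim_pt X)).1, map_one,
    finsum_eq_single _ ⟨genericPoint X.obj.left, (hw _).2 rfl⟩
      (fun w hne => absurd (Subtype.ext ((hw w.1).1 w.2)) hne),
    preimMult_genericPoint X ξ _, Nat.cast_one, one_smul] at h
  exact h.symm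

theorem cl_push_image {X Y : Var k} (f : X ⟶ Y) (ξ : X.obj.left) :
    (T.push f (2 * (codim X.obj.left ξ : ℤ)) ⟨T.cl X ξ, T.cl_mem X ξ⟩ : T.H Y) =
      ((sm f).residueDegree ξ : K) • T.cl Y (sm f ξ) := by
  have h1 := pdim_le_dim X.obj.hom ξ
  refine push_eq T f _ _ ?_ fun b hb => ?_
  · by_cases hd : (sm f).residueDegree ξ = 0
    · rw [hd, Nat.cast_zero, zero_smul]; exact Submodule.zero_mem _
    · have h2 := pdim_image_eq f ξ hd
      have h3 := pdim_le_dim Y.obj.hom (sm f ξ)
      have e : 2 * (codim Y.obj.left (sm f ξ) : ℤ) =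
          2 * (codim X.obj.left ξ : ℤ) + 2 * (dim Y.obj.left : ℤ) - 2 * (dim X.obj.left : ℤ) := by
        simp only [codim]; omega
      exact Submodule.smul_mem _ _ (e ▸ T.cl_mem Y (sm f ξ))
  · rw [T.cl_push f ξ b ((show 2 * (dim X.obj.left : ℤ) - 2 * (codim X.obj.left ξ : ℤ) =
      2 * (pdim X.obj.left ξ : ℤ) by simp only [codim]; omega) ▸ hb), smul_mul_assoc, map_smul, smul_eq_mul]

/-- A graph has codimension the dimension of the target. -/
theorem codim_graph {X Y Q : Var k} {p : Q ⟶ X} {q : Q ⟶ Y} (hQ : IsProd p q) {j : X ⟶ Q} (hj : j ≫ p = 𝟙 X)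
    (T' : Theory k K) :
    (codim Q.obj.left (sm j (genericPoint X.obj.left)) : ℤ) = dim Y.obj.left := by
  have h1 := pdim_section hj (genericPoint X.obj.left)
  rw [← dim_eq_pdim_genericPoint X.obj.hom] at h1
  have h2 := dim_prod T' p q hQ
  rw [codim, h1]; omega

/-- Pairing against the class of a graph-like section. -/
theorem tr_cl_section {X Q : Var k} {p : Q ⟶ X} {j : X ⟶ Q} (hj : j ≫ p = 𝟙 X) {z : T.H Q}
    (hz : z ∈ T.gr Q (2 * (dim X.obj.left : ℤ))) :
    T.tr Q (T.cl Q (sm j (genericPoint X.obj.left)) * z) = T.tr X (T.pull j z) := by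
  have h := T.cl_push j (genericPoint X.obj.left) z (by rwa [← dim_eq_pdim_genericPoint X.obj.hom])
  rwa [residueDegree_section hj, Nat.cast_one, one_mul, cl_genericPoint T, one_mul, eq_comm] at h

end Groth.Agent.WeilCohLib
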