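import Mathlib
import Groth.Prelude.Def_WeilCoh
import Groth.Agent.WeilCohLib.Classes
import Groth.Agent.WeilCohLib.Frob

/-!
Poincaré duality for an endomorphism multiplying the trace by a scalar: determinants, characteristic
polynomials, the functional equation.
-/

set_option autoImplicit false
set_option linter.style.haveILetI false
set_option linter.unusedSectionVars false

universe u v w

noncomputable section

open AlgebraicGeometry CategoryTheory WeilCoh Polynomial

namespace Groth.Agent.WeilCohLib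

section Matrix

variable {K : Type v} [Field K] {ι : Type} [Fintype ι] [DecidableEq ι]

theorem det_smul_charpolyRev {A B : Matrix ι ι K} {d : K} (h : B.transpose * A = d • 1) :
    A.det • B.charpoly.reverse = (-1 : K[X]) ^ Fintype.card ι * A.charpoly.comp (C d * X) := by
  rw [← Matrix.charpoly_transpose B, Matrix.reverse_charpoly, Matrix.charpolyRev, smul_eq_C_mul, mul_comm,
    RingHom.map_det C A, RingHom.mapMatrix_apply, ← Matrix.det_mul]
  have hc : A.charpoly.comp (C d * X) = (Matrix.scalar ι (C d * X) - A.map C).det := by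
    rw [Matrix.charpoly, ← coe_compRingHom_apply, RingHom.map_det]
    congr 1
    ext i j : 1
    by_cases hij : i = j
    · subst hij
      simp only [RingHom.mapMatrix_apply, Matrix.map_apply, Matrix.charmatrix_apply_eq, coe_compRingHom_apply,
        sub_comp, X_comp, C_comp, Matrix.sub_apply, Matrix.scalar_apply, Matrix.diagonal_apply_eq]
    · simp only [RingHom.mapMatrix_apply, Matrix.map_apply, Matrix.charmatrix_apply_ne _ _ _ hij, coe_compRingHom_apply,
        neg_comp, C_comp, Matrix.sub_apply, Matrix.scalar_apply, Matrix.diagonal_apply_ne _ hij, zero_sub]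
  have he : (1 - (X : K[X]) • B.transpose.map C) * A.map C = -(Matrix.scalar ι (C d * X) - A.map C) := by
    rw [sub_mul, one_mul, smul_mul_assoc, ← Matrix.map_mul, h, neg_sub]
    congr 1
    ext i j : 1
    by_cases hij : i = j
    · subst hij
      simp only [Matrix.map_apply, Matrix.smul_apply, Matrix.one_apply_eq, Matrix.scalar_apply,
        Matrix.diagonal_apply_eq, smul_eq_mul, mul_one, mul_comm]
    · simp only [Matrix.map_apply, Matrix.smul_apply, Matrix.one_apply_ne hij, Matrix.scalar_apply,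
        Matrix.diagonal_apply_ne _ hij, smul_eq_mul, mul_zero, map_zero]
  rw [he, Matrix.det_neg, hc]

theorem det_mul_det_eq {A B : Matrix ι ι K} {d : K} (h : B.transpose * A = d • 1) :
    B.det * A.det = d ^ Fintype.card ι := by
  rw [← Matrix.det_transpose B, ← Matrix.det_mul, h, Matrix.det_smul, Matrix.det_one, mul_one]

end Matrix

variable {k : Type u} [Field k] {P : ObjectProperty (Over (Spec (CommRingCat.of k)))}
variable {K : Type v} [Field K] (T : TheoryOn.{u, v, w} k P K) {X : P.FullSubcategory} (F : X ⟶ X)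

theorem exists_matrices (d : K)
    (hd : ∀ a ∈ T.gr X (2 * (dim X.obj.left : ℤ)), T.tr X (T.pull F a) = d * T.tr X a)
    (i j : ℤ) (hij : i + j = 2 * (dim X.obj.left : ℤ)) :
    Module.finrank K ↥(T.gr X j) = Module.finrank K ↥(T.gr X i) ∧
      ∃ A B : Matrix (Fin (Module.finrank K ↥(T.gr X i))) (Fin (Module.finrank K ↥(T.gr X i))) K,
        B.transpose * A = d • 1 ∧ A.det = LinearMap.det (T.pullDeg F i) ∧ A.charpoly = (T.pullDeg F i).charpoly ∧
          B.det = LinearMap.det (T.pullDeg F j) ∧ B.charpoly = (T.pullDeg F j).charpoly := by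
  haveI := T.duality X j i (by omega)
  let b := Module.finBasis K ↥(T.gr X i)
  let E := (pairing K (T.gr X j) (T.gr X i) (T.tr X)).toPerfPair
  let c := b.dualBasis.map E.symm
  have hcb : ∀ l r, T.tr X ((c l : T.H X) * (b r : T.H X)) = if l = r then 1 else 0 := by
    intro l r
    have h : pairing K (T.gr X j) (T.gr X i) (T.tr X) (c l) (b r) = b.dualBasis l (b r) := by
      simp only [c, Module.Basis.map_apply, E]
      exact LinearMap.congr_fun
        ((pairing K (T.gr X j) (T.gr X i) (T.tr X)).apply_symm_toPerfPair_self (b.dualBasis l)) (b r)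
    refine Eq.trans h ?_
    rw [Module.Basis.coe_dualBasis, Module.Basis.coord_apply, Module.Basis.repr_self, Finsupp.single_apply]
    simp [eq_comm]
  refine ⟨by rw [Module.finrank_eq_card_basis c, Fintype.card_fin],
    LinearMap.toMatrix b b (T.pullDeg F i), LinearMap.toMatrix c c (T.pullDeg F j), ?_,
    LinearMap.det_toMatrix b _, LinearMap.charpoly_toMatrix _ b, LinearMap.det_toMatrix c _,
    LinearMap.charpoly_toMatrix _ c⟩
  ext l r
  have hpair : pairing K (T.gr X j) (T.gr X i) (T.tr X) (T.pullDeg F j (c l)) (T.pullDeg F i (b r)) =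
      d * (if l = r then 1 else 0) := by
    change T.tr X (T.pull F (c l : T.H X) * T.pull F (b r : T.H X)) = _
    rw [← map_mul (T.pull F), hd _ (mul_mem T X (c l).2 (b r).2 (by omega)), hcb]
  have hcb' : ∀ m m', pairing K (T.gr X j) (T.gr X i) (T.tr X) (c m) (b m') = if m = m' then 1 else 0 := hcb
  rw [← c.sum_repr (T.pullDeg F j (c l)), ← b.sum_repr (T.pullDeg F i (b r))] at hpair
  simp only [map_sum, map_smul, LinearMap.sum_apply, LinearMap.smul_apply, smul_eq_mul, hcb', mul_ite, mul_one,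
    mul_zero, Finset.sum_ite_eq, Finset.sum_ite_eq', Finset.mem_univ, if_true] at hpair
  simp only [Matrix.mul_apply, Matrix.transpose_apply, LinearMap.toMatrix_apply, Matrix.smul_apply, Matrix.one_apply,
    smul_eq_mul, mul_ite, mul_one, mul_zero]
  convert hpair using 1
  exact Finset.sum_congr rfl fun m _ => by ring

theorem even_finrank_middle [CharZero K] (m : ℕ) (hm : m = dim X.obj.left) (hodd : Odd m) :
    Even (Module.finrank K ↥(T.gr X (m : ℤ))) := by
  haveI := T.duality X (m : ℤ) (m : ℤ) (by omega)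
  set N := Module.finrank K ↥(T.gr X (m : ℤ))
  let b := Module.finBasis K ↥(T.gr X (m : ℤ))
  let M : Matrix (Fin N) (Fin N) K := fun l r => T.tr X ((b l : T.H X) * (b r : T.H X))
  have hskew : M.transpose = -M := by
    ext l r
    simp only [M, Matrix.transpose_apply, Matrix.neg_apply]
    rw [tr_comm T X (b r).2 (b l).2, sgn, if_neg (by simp [Int.even_mul, Int.even_coe_nat, Nat.not_even_iff_odd.2 hodd])]
    ring
  have hdet : M.det ≠ 0 := by
    intro h0
    obtain ⟨v, hv, hv0⟩ := Matrix.exists_vecMul_eq_zero_iff.2 h0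
    apply hv
    have hx : pairing K (T.gr X (m : ℤ)) (T.gr X (m : ℤ)) (T.tr X) (∑ l, v l • b l) = 0 := by
      refine b.ext fun r => ?_
      rw [map_sum, LinearMap.sum_apply, LinearMap.zero_apply]
      refine Eq.trans (Finset.sum_congr rfl fun l _ => ?_) (congrFun hv0 r)
      rw [map_smul, LinearMap.smul_apply, smul_eq_mul]
      rfl
    have h1 := (LinearMap.IsPerfPair.bijective_left (pairing K (T.gr X (m : ℤ)) (T.gr X (m : ℤ)) (T.tr X))).1
      (hx.trans (map_zero _).symm)
    funext l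
    have h2 := congrArg (fun x => b.repr x l) h1
    simpa [Finsupp.single_apply] using h2
  have h := congrArg Matrix.det hskew
  rw [Matrix.det_transpose, Matrix.det_neg, Fintype.card_fin] at h
  by_contra hN
  rw [(Nat.not_even_iff_odd.1 hN).neg_one_pow] at h
  exact hdet (eq_zero_of_neg_one_mul h)
where
  eq_zero_of_neg_one_mul {x : K} (h : x = -1 * x) : x = 0 := by
    have h2 : (2 : K) * x = 0 := by linear_combination h
    simpa using h2

section Frobenius

variable {k₀ : Type u} [Field k₀] [Finite k₀] [IsAlgClosed k] [Algebra k₀ k] [CharZero K] (W : Theory k K)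

theorem eq_genericPoint_of_pdim {Xb : Var k} (ξ : Xb.obj.left) (h : pdim Xb.obj.left ξ = dim Xb.obj.left) :
    ξ = genericPoint Xb.obj.left := by
  have hle : ξ ≤ genericPoint Xb.obj.left := Scheme.le_iff_specializes.2 (genericPoint_specializes ξ)
  by_contra hne
  have hlt : ξ < genericPoint Xb.obj.left := lt_of_le_not_ge hle fun h2 =>
    hne ((Scheme.le_iff_specializes.1 h2).antisymm (genericPoint_specializes ξ)).eq
  have h1 := Order.height_strictMono hlt (by rw [(height_eq Xb.obj.hom ξ).1]; exact WithTop.coe_lt_top _)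
  rw [(height_eq Xb.obj.hom ξ).1, (height_eq Xb.obj.hom _).1, ← dim_eq_pdim_genericPoint Xb.obj.hom, h] at h1
  exact lt_irrefl _ h1

theorem tr_pull_frob {X₀ : Scheme.{u}} {f : X₀ ⟶ Spec (CommRingCat.of k₀)} (FX : X₀ ⟶ X₀) (hFb : FX.base = 𝟙 _)
    (hle : ∀ U : X₀.Opens, U ≤ FX ⁻¹ᵁ U)
    (hFapp : ∀ (U : X₀.Opens) (s : Γ(X₀, U)), (FX.appLE U U (hle U)).hom s = s ^ Nat.card k₀)
    {Xb : Var k} {π : Xb.obj.left ⟶ X₀}
    (hπ : IsPullback π Xb.obj.hom f (Spec.map (CommRingCat.ofHom (algebraMap k₀ k))))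
    {F : Xb ⟶ Xb} (hF : sm F ≫ π = π ≫ FX) :
    ∀ a ∈ W.gr Xb (2 * (dim Xb.obj.left : ℤ)),
      W.tr Xb (W.pull F a) = ((Nat.card k₀ : K) ^ dim Xb.obj.left) * W.tr Xb a := by
  intro a ha
  have hdeg := residueDegree_frob k₀ k hπ FX hFb hle hFapp (sm F) (sm_comp_hom F) hF (genericPoint Xb.obj.left)
  rw [← dim_eq_pdim_genericPoint Xb.obj.hom] at hdeg
  have hne : (sm F).residueDegree (genericPoint Xb.obj.left) ≠ 0 := by
    rw [hdeg]; exact pow_ne_zero _ (Nat.card_pos).ne'
  have hη : sm F (genericPoint Xb.obj.left) = genericPoint Xb.obj.left := eq_genericPoint_of_pdim _ (by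
    rw [← pdim_image_eq F _ hne, ← dim_eq_pdim_genericPoint Xb.obj.hom])
  have h := W.cl_push F (genericPoint Xb.obj.left) a (by rwa [← dim_eq_pdim_genericPoint Xb.obj.hom])
  rw [hη, cl_genericPoint W, one_mul, one_mul, hdeg, Nat.cast_pow] at h
  exact h

end Frobenius

section FunctionalEquation

variable [CharZero K]

theorem alternating_sum (f : ℕ → ℤ) (n : ℕ) :
    ∑ i ∈ Finset.range (2 * n + 1), (-1 : ℤ) ^ i * f i =
      (∑ i ∈ Finset.range (n + 1), f (2 * i)) - ∑ i ∈ Finset.range n, f (2 * i + 1) := by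
  induction n with
  | zero => simp
  | succ n ih =>
    rw [show 2 * (n + 1) + 1 = 2 * n + 1 + 1 + 1 by ring, Finset.sum_range_succ, Finset.sum_range_succ, ih]
    simp only [Finset.sum_range_succ]
    simp [pow_succ, pow_mul, mul_add]
    ring

theorem sum_split (f : ℕ → ℤ) (n : ℕ) :
    ∑ i ∈ Finset.range (2 * n + 1), f i =
      (∑ i ∈ Finset.range (n + 1), f (2 * i)) + ∑ i ∈ Finset.range n, f (2 * i + 1) := by
  induction n with
  | zero => simp
  | succ n ih =>
    rw [show 2 * (n + 1) + 1 = 2 * n + 1 + 1 + 1 by ring, Finset.sum_range_succ, Finset.sum_range_succ, ih]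
    simp only [Finset.sum_range_succ]
    ring_nf

variable (n q : ℕ) (hn : n = dim X.obj.left) (hq : q ≠ 0)
  (hd : ∀ a ∈ T.gr X (2 * (dim X.obj.left : ℤ)), T.tr X (T.pull F a) = ((q : K) ^ n) * T.tr X a)

include hd hn in
theorem charpoly_compl (i j : ℤ) (hij : i + j = 2 * (n : ℤ)) :
    LinearMap.det (T.pullDeg F i) • (T.pullDeg F j).charpoly.reverse =
      (-1 : K[X]) ^ Module.finrank K ↥(T.gr X i) * (T.pullDeg F i).charpoly.comp (C ((q : K) ^ n) * Polynomial.X) := by
  obtain ⟨-, A, B, h, hA, hA', -, hB'⟩ := exists_matrices T F _ hd i j (by omega)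
  rw [← hA, ← hA', ← hB', det_smul_charpolyRev h, Fintype.card_fin]

include hd hn in
theorem det_compl (i j : ℤ) (hij : i + j = 2 * (n : ℤ)) :
    LinearMap.det (T.pullDeg F j) * LinearMap.det (T.pullDeg F i) = (q : K) ^ (n * Module.finrank K ↥(T.gr X i)) := by
  obtain ⟨-, A, B, h, hA, -, hB, -⟩ := exists_matrices T F _ hd i j (by omega)
  rw [← hA, ← hB, det_mul_det_eq h, Fintype.card_fin, pow_mul]

include hd hn hq in
theorem functional_equation :
    ∃ ε : K, (ε = 1 ∨ ε = -1) ∧
      Polynomial.aeval ((RatFunc.X : RatFunc K)⁻¹ * RatFunc.C ((q : K) ^ n)⁻¹)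
          (∏ i ∈ Finset.range n, (LinearMap.charpoly (T.pullDeg F ((2 * i + 1 : ℕ) : ℤ))).reverse) /
        Polynomial.aeval ((RatFunc.X : RatFunc K)⁻¹ * RatFunc.C ((q : K) ^ n)⁻¹)
          (∏ i ∈ Finset.range (n + 1), (LinearMap.charpoly (T.pullDeg F ((2 * i : ℕ) : ℤ))).reverse) =
      RatFunc.C ε * RatFunc.C (q : K) ^ ((n : ℤ) * (∑ i ∈ Finset.range (2 * n + 1), (-1 : ℤ) ^ i * (Module.finrank K ↥(T.gr X (i : ℤ)) : ℤ)) / 2) *
        (RatFunc.X : RatFunc K) ^ (∑ i ∈ Finset.range (2 * n + 1), (-1 : ℤ) ^ i * (Module.finrank K ↥(T.gr X (i : ℤ)) : ℤ)) *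
        (algebraMap K[X] (RatFunc K)
          (∏ i ∈ Finset.range n, (LinearMap.charpoly (T.pullDeg F ((2 * i + 1 : ℕ) : ℤ))).reverse) /
         algebraMap K[X] (RatFunc K)
          (∏ i ∈ Finset.range (n + 1), (LinearMap.charpoly (T.pullDeg F ((2 * i : ℕ) : ℤ))).reverse)) := by
  set B : ℕ → ℕ := fun i => Module.finrank K ↥(T.gr X (i : ℤ)) with hB
  set D : ℕ → K := fun i => LinearMap.det (T.pullDeg F (i : ℤ)) with hD
  set g : ℕ → K[X] := fun i => (T.pullDeg F (i : ℤ)).charpoly.reverse with hg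
  set d : K := (q : K) ^ n with hdd
  set Y : RatFunc K := (RatFunc.X : RatFunc K)⁻¹ * RatFunc.C d⁻¹ with hY
  have hq0 : (q : K) ≠ 0 := Nat.cast_ne_zero.2 hq
  have hd0 : d ≠ 0 := pow_ne_zero _ hq0
  have hX0 : (RatFunc.X : RatFunc K) ≠ 0 := RatFunc.X_ne_zero
  have hC0 : RatFunc.C d ≠ 0 := by simpa using hd0
  have hY0 : Y ≠ 0 := mul_ne_zero (inv_ne_zero hX0) (by simpa using hd0)
  have hone : ∀ i j : ℕ, i + j = 2 * n → Polynomial.aeval Y (g i) =
      RatFunc.C ((-1) ^ B i * D i) * Y ^ B i * algebraMap K[X] (RatFunc K) (g j) := by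
    intro i j hij
    have h := charpoly_compl T F n q hn hd (i : ℤ) (j : ℤ) (by omega)
    rw [Polynomial.smul_eq_C_mul] at h
    have h' := congrArg (algebraMap K[X] (RatFunc K)) h
    rw [map_mul, map_mul, map_pow, map_neg, map_one, RatFunc.algebraMap_C, Polynomial.comp_eq_aeval,
      ← Polynomial.aeval_algebraMap_apply] at h'
    simp only [map_mul, RatFunc.algebraMap_C, RatFunc.algebraMap_X] at h'
    haveI : Invertible (RatFunc.C d * RatFunc.X) := invertibleOfNonzero (mul_ne_zero hC0 hX0)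
    have hr := Polynomial.eval₂_reverse_mul_pow (algebraMap K (RatFunc K)) (RatFunc.C d * RatFunc.X)
      (T.pullDeg F (i : ℤ)).charpoly
    rw [invOf_eq_inv, LinearMap.charpoly_natDegree, mul_inv_rev, ← map_inv₀ RatFunc.C, ← Polynomial.aeval_def,
      ← Polynomial.aeval_def] at hr
    rw [← hr, show (RatFunc.C d * RatFunc.X) = Y⁻¹ by rw [hY, mul_inv_rev, ← map_inv₀ RatFunc.C, inv_inv, inv_inv, mul_comm]] at h'
    simp only [inv_pow] at h'
    have hYB : Y ^ B i ≠ 0 := pow_ne_zero _ hY0
    rw [map_mul, map_pow, map_neg, map_one]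
    simp only [g, D, B] at h' ⊢
    rw [← mul_assoc, eq_mul_inv_iff_mul_eq₀ hYB] at h'
    set m := Module.finrank K ↥(T.gr X (i : ℤ)) with hm
    calc Polynomial.aeval Y (T.pullDeg F (i : ℤ)).charpoly.reverse
        = (-1 : RatFunc K) ^ m * ((-1) ^ m * Polynomial.aeval Y (T.pullDeg F (i : ℤ)).charpoly.reverse) := by
          rw [← mul_assoc, ← pow_add, ← two_mul, pow_mul, neg_one_sq, one_pow, one_mul]
      _ = _ := by rw [← h']; ring
  have hsym : ∀ i j : ℕ, i + j = 2 * n → B j = B i := fun i j hij =>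
    (exists_matrices T F _ hd (i : ℤ) (j : ℤ) (by omega)).1
  have hDD : ∀ i j : ℕ, i + j = 2 * n → D j * D i = d ^ B i := fun i j hij => by
    rw [hdd, ← pow_mul]; exact det_compl T F n q hn hd (i : ℤ) (j : ℤ) (by omega)
  -- the two products
  have hodd : Polynomial.aeval Y (∏ i ∈ Finset.range n, g (2 * i + 1)) =
      RatFunc.C (∏ i ∈ Finset.range n, (-1) ^ B (2 * i + 1) * D (2 * i + 1)) * Y ^ (∑ i ∈ Finset.range n, B (2 * i + 1)) *
        algebraMap K[X] (RatFunc K) (∏ i ∈ Finset.range n, g (2 * i + 1)) := by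
    conv_rhs => rw [← Finset.prod_range_reflect (fun i => g (2 * i + 1)) n]
    rw [map_prod, map_prod, map_prod, ← Finset.prod_pow_eq_pow_sum, ← Finset.prod_mul_distrib, ← Finset.prod_mul_distrib]
    exact Finset.prod_congr rfl fun i hi => hone _ _ (by have := Finset.mem_range.1 hi; omega)
  have heven : Polynomial.aeval Y (∏ i ∈ Finset.range (n + 1), g (2 * i)) =
      RatFunc.C (∏ i ∈ Finset.range (n + 1), (-1) ^ B (2 * i) * D (2 * i)) * Y ^ (∑ i ∈ Finset.range (n + 1), B (2 * i)) *
        algebraMap K[X] (RatFunc K) (∏ i ∈ Finset.range (n + 1), g (2 * i)) := by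
    conv_rhs => rw [← Finset.prod_range_reflect (fun i => g (2 * i)) (n + 1)]
    rw [map_prod, map_prod, map_prod, ← Finset.prod_pow_eq_pow_sum, ← Finset.prod_mul_distrib, ← Finset.prod_mul_distrib]
    exact Finset.prod_congr rfl fun i hi => hone _ _ (by have := Finset.mem_range.1 hi; omega)
  set co := ∏ i ∈ Finset.range n, (-1 : K) ^ B (2 * i + 1) * D (2 * i + 1) with hco
  set ce := ∏ i ∈ Finset.range (n + 1), (-1 : K) ^ B (2 * i) * D (2 * i) with hce
  set So := ∑ i ∈ Finset.range n, B (2 * i + 1) with hSo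
  set Se := ∑ i ∈ Finset.range (n + 1), B (2 * i) with hSe
  set E := ∑ i ∈ Finset.range (2 * n + 1), (-1 : ℤ) ^ i * (Module.finrank K ↥(T.gr X (i : ℤ)) : ℤ) with hE
  have hE' : E = (Se : ℤ) - So := by
    rw [hE, alternating_sum (fun i => (B i : ℤ)) n, hSe, hSo]; push_cast; rfl
  have hco2 : co * co = d ^ So := by
    rw [hco]
    conv_lhs => rw [← Finset.prod_range_reflect (fun i => (-1 : K) ^ B (2 * i + 1) * D (2 * i + 1)) n]
    conv_lhs => arg 2; rw [Finset.prod_range_reflect (fun i => (-1 : K) ^ B (2 * i + 1) * D (2 * i + 1)) n]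
    rw [← Finset.prod_mul_distrib, hSo, ← Finset.prod_pow_eq_pow_sum]
    refine Finset.prod_congr rfl fun i hi => ?_
    have h1 : 2 * i + 1 + (2 * (n - 1 - i) + 1) = 2 * n := by have := Finset.mem_range.1 hi; omega
    rw [hsym _ _ h1, mul_mul_mul_comm, ← pow_add, ← two_mul (B (2 * i + 1)), pow_mul, neg_one_sq, one_pow, one_mul,
      hDD _ _ h1]
  have hce2 : ce * ce = d ^ Se := by
    rw [hce]
    conv_lhs => rw [← Finset.prod_range_reflect (fun i => (-1 : K) ^ B (2 * i) * D (2 * i)) (n + 1)]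
    conv_lhs => arg 2; rw [Finset.prod_range_reflect (fun i => (-1 : K) ^ B (2 * i) * D (2 * i)) (n + 1)]
    rw [← Finset.prod_mul_distrib, hSe, ← Finset.prod_pow_eq_pow_sum]
    refine Finset.prod_congr rfl fun i hi => ?_
    have h1 : 2 * i + 2 * (n + 1 - 1 - i) = 2 * n := by have := Finset.mem_range.1 hi; omega
    rw [hsym _ _ h1, mul_mul_mul_comm, ← pow_add, ← two_mul (B (2 * i)), pow_mul, neg_one_sq, one_pow, one_mul,
      hDD _ _ h1]
  have hce0 : ce ≠ 0 := fun h => pow_ne_zero Se hd0 (by rw [← hce2, h, zero_mul])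
  -- parity
  have hev : Even ((n : ℤ) * E) := by
    rcases Nat.even_or_odd n with hn2 | hn2
    · exact ((Int.even_coe_nat n).2 hn2).mul_right E
    · refine Even.mul_left ?_ _
      have hmid : Even (B n) := even_finrank_middle T n hn hn2
      have hsum : ∀ m : ℕ, m ≤ n → Even (∑ i ∈ Finset.Ico (n - m) (n + m + 1), (B i : ℤ)) := by
        intro m hm
        induction m with
        | zero => simpa using (Int.even_coe_nat _).2 hmid
        | succ m ih =>
          rw [show n + (m + 1) + 1 = (n + m + 1) + 1 by omega, Finset.sum_Ico_succ_top (by omega),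
            Finset.sum_eq_sum_Ico_succ_bot (by omega : n - (m + 1) < n + m + 1),
            show n - (m + 1) + 1 = n - m by omega, hsym (n - (m + 1)) (n + m + 1) (by omega)]
          obtain ⟨c, hc⟩ := ih (by omega)
          exact ⟨(B (n - (m + 1)) : ℤ) + c, by rw [hc]; ring⟩
      have hall := hsum n le_rfl
      rw [Nat.sub_self, Nat.Ico_zero_eq_range, ← two_mul] at hall
      rw [hE', sum_split (fun i => (B i : ℤ)) n] at *
      simp only [hSe, hSo, Nat.cast_sum] at hall ⊢
      rw [Int.even_sub, ← Int.even_add]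
      exact hall
  obtain ⟨e, he⟩ := hev
  have he' : (n : ℤ) * E / 2 = e := by omega
  set r : K := co / ce * d ^ E with hr
  have hr2 : r * r = ((q : K) ^ e) * ((q : K) ^ e) := by
    rw [hr, mul_mul_mul_comm, div_mul_div_comm, hco2, hce2, ← zpow_natCast d So, ← zpow_natCast d Se, ← zpow_sub₀ hd0,
      ← zpow_add₀ hd0, ← zpow_add₀ hd0, hdd, ← zpow_natCast (q : K) n, ← zpow_mul, ← zpow_add₀ hq0]
    congr 1
    rw [show ((So : ℤ) - Se + (E + E)) = E by omega]
    exact he
  refine ⟨r / (q : K) ^ e, ?_, ?_⟩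
  · rcases mul_self_eq_mul_self_iff.1 hr2 with h | h
    · exact Or.inl (by rw [h, div_self (zpow_ne_zero _ hq0)])
    · exact Or.inr (by rw [h, neg_div, div_self (zpow_ne_zero _ hq0)])
  · simp only [g] at hodd heven
    rw [hodd, heven, he', ← map_zpow₀ RatFunc.C, ← map_mul RatFunc.C, div_mul_cancel₀ _ (zpow_ne_zero _ hq0), hr,
      map_mul, map_div₀, map_zpow₀, mul_div_mul_comm, mul_div_mul_comm, ← zpow_natCast Y So, ← zpow_natCast Y Se,
      ← zpow_sub₀ hY0, show ((So : ℤ) - Se) = -E by omega, hY, zpow_neg, mul_zpow, mul_inv_rev, inv_zpow,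
      inv_inv, map_inv₀, inv_zpow, inv_inv]
    ring

end FunctionalEquation

end Groth.Agent.WeilCohLib
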