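import Mathlib
import Groth.Prelude.Def_WeilCoh
import Groth.Agent.WeilCohLib.Alg

/-!
The action of classes on a product as correspondences: bijectivity and the trace formula.
-/

set_option autoImplicit false

universe u v w

noncomputable section

open AlgebraicGeometry CategoryTheory TensorProduct WeilCoh

namespace Groth.Agent.WeilCohLib

variable {k : Type u} [Field k] {P : ObjectProperty (Over (Spec (CommRingCat.of k)))}
variable {K : Type v} [Field K] (T : TheoryOn.{u, v, w} k P K)
variable {X Y Q Q' : P.FullSubcategory} (p : Q ⟶ X) (q : Q ⟶ Y)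

/-- The correspondence given by a class on a product. -/
def corr (n : ℤ) (φ : T.gr Q n) (i : ℤ) :
    T.gr X i →ₗ[K] T.gr Y (i + n + 2 * (dim Y.obj.left : ℤ) - 2 * (dim Q.obj.left : ℤ)) :=
  (T.push q (i + n)) ∘ₗ
    ((LinearMap.mulRight K (φ : T.H Q)).restrict (p := T.gr Q i) (q := T.gr Q (i + n))
      (fun _ hx => SetLike.mul_mem_graded hx φ.2)) ∘ₗ (T.pullDeg p i)

theorem corr_apply (n : ℤ) (φ : T.gr Q n) (i : ℤ) (x : T.gr X i) :
    corr T p q n φ i x =
      T.push q (i + n) ⟨T.pull p (x : T.H X) * φ, SetLike.mul_mem_graded (T.pull_mem p i x x.2) φ.2⟩ := rfl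

theorem corr_add (n : ℤ) (φ φ' : T.gr Q n) (i : ℤ) :
    corr T p q n (φ + φ') i = corr T p q n φ i + corr T p q n φ' i := by
  refine LinearMap.ext fun x => ?_
  rw [LinearMap.add_apply, corr_apply, corr_apply, corr_apply, ← map_add]
  exact congrArg (T.push q (i + n)) (Subtype.ext (mul_add _ _ _))

theorem corr_smul (n : ℤ) (c : K) (φ : T.gr Q n) (i : ℤ) :
    corr T p q n (c • φ) i = c • corr T p q n φ i := by
  refine LinearMap.ext fun x => ?_
  rw [LinearMap.smul_apply, corr_apply, corr_apply, ← map_smul]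
  exact congrArg (T.push q (i + n)) (Subtype.ext (mul_smul_comm _ _ _))

theorem corr_zero (n : ℤ) (i : ℤ) : corr T p q n 0 i = 0 := by
  simpa using corr_smul T p q n (0 : K) 0 i

theorem corr_congr (n : ℤ) (φ : T.gr Q n) {i i' : ℤ} (h : i = i') (x : T.gr X i) (x' : T.gr X i')
    (hx : (x : T.H X) = x') : (corr T p q n φ i x : T.H Y) = corr T p q n φ i' x' := by
  subst h; rw [Subtype.ext hx]

variable (hQ : IsProd p q)

include hQ in
theorem corr_kunneth {n : ℤ} (φ : T.gr Q n) {a : T.H X} {b : T.H Y} {s t : ℤ} (ha : a ∈ T.gr X s)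
    (hb : b ∈ T.gr Y t) (hst : s + t = n) (hφ : (φ : T.H Q) = T.pull p a * T.pull q b) (i : ℤ) (x : T.gr X i) :
    (corr T p q n φ i x : T.H Y) = T.tr X ((x : T.H X) * a) • b := by
  rw [corr_apply]
  refine push_snd_kunneth T p q hQ (i + n) _ (s := i + s) (t := t) (mul_mem T X x.2 ha rfl) hb (by omega) ?_
  simp only [hφ, map_mul, mul_assoc]

include hQ in
/-- Correspondences of a fixed degree are the classes of that degree. -/
theorem corr_bijective (n : ℤ) : Function.Bijective (fun φ : T.gr Q n => fun i => corr T p q n φ i) := by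
  constructor
  · intro φ φ' h
    refine Subtype.ext (eq_of_tr_kunneth T p q hQ (m := n) (m' := 2 * (dim Q.obj.left : ℤ) - n) (by omega) φ.2 φ'.2
      fun s t x y hx hy hst => ?_)
    have key : ∀ χ : T.gr Q n, T.tr Q ((χ : T.H Q) * (T.pull p x * T.pull q y)) =
        sgn K n s * T.tr Y ((corr T p q n χ s ⟨x, hx⟩ : T.H Y) * y) := by
      intro χ
      rw [corr_apply, push_spec T q (s + n) _ (j := t) (by omega) hy, ← mul_assoc,
        mul_comm_sgn T Q χ.2 (T.pull_mem p s x hx), smul_mul_assoc, map_smul, smul_eq_mul]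
    rw [key, key, show corr T p q n φ s = corr T p q n φ' s from congrFun h s]
  · intro F
    have hd := dim_prod T p q hQ
    let G : T.H X →ₗ[K] T.H Y →ₗ[K] K :=
      (DirectSum.toModule K ℤ _ fun i => sgn K n i •
        (((LinearMap.mul K (T.H Y)).compr₂ (T.tr Y)) ∘ₗ (T.gr Y _).subtype ∘ₗ F i)) ∘ₗ
        (LinearEquiv.ofBijective (DirectSum.coeLinearMap (T.gr X)) (T.decomp X)).symm.toLinearMap
    have hG : ∀ (i : ℤ) (x : T.gr X i) (y : T.H Y), G x y = sgn K n i * T.tr Y ((F i x : T.H Y) * y) := by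
      intro i x y
      have he : (LinearEquiv.ofBijective (DirectSum.coeLinearMap (T.gr X)) (T.decomp X)).symm (x : T.H X) =
          DirectSum.lof K ℤ (fun i => T.gr X i) i x := by
        rw [LinearEquiv.symm_apply_eq]
        exact (DirectSum.coeLinearMap_of (T.gr X) i x).symm
      simp only [G, LinearMap.comp_apply, LinearEquiv.coe_coe, he, DirectSum.toModule_lof]
      rfl
    let Λ : T.H Q →ₗ[K] K := TensorProduct.lift G ∘ₗ
      (LinearEquiv.ofBijective (kunnethMap K (T.pull p) (T.pull q)) (T.kunneth p q hQ)).symm.toLinearMap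
    have hΛ : ∀ x y, Λ (T.pull p x * T.pull q y) = G x y := by
      intro x y
      have he : (LinearEquiv.ofBijective (kunnethMap K (T.pull p) (T.pull q)) (T.kunneth p q hQ)).symm
          (T.pull p x * T.pull q y) = x ⊗ₜ[K] y := by
        rw [LinearEquiv.symm_apply_eq]
        simp [kunnethMap]
      simp only [Λ, LinearMap.comp_apply, LinearEquiv.coe_coe, he, TensorProduct.lift.tmul]
    obtain ⟨φ, hφ⟩ := exists_of_functional T Q (i := n) (j := 2 * (dim Q.obj.left : ℤ) - n) (by omega)
      (Λ ∘ₗ (T.gr Q (2 * (dim Q.obj.left : ℤ) - n)).subtype)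
    refine ⟨φ, funext fun i => LinearMap.ext fun x => Subtype.ext ?_⟩
    rw [corr_apply]
    refine push_eq T q (i + n) _ (F i x).2 fun y hy => ?_
    have hz : T.pull p (x : T.H X) * T.pull q y ∈ T.gr Q (2 * (dim Q.obj.left : ℤ) - n) :=
      mul_mem T Q (T.pull_mem p i x x.2) (T.pull_mem q _ y hy) (by omega)
    have h := hφ ⟨_, hz⟩
    rw [LinearMap.comp_apply, Submodule.subtype_apply, hΛ, hG, ← mul_assoc,
      mul_comm_sgn T Q φ.2 (T.pull_mem p i x x.2), smul_mul_assoc, map_smul, smul_eq_mul] at h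
    exact (mul_left_cancel₀ (left_ne_zero_of_mul_eq_one (sgn_mul_self (K := K) n i)) h).symm

variable (p' : Q' ⟶ Y) (q' : Q' ⟶ X) (hQ' : IsProd p' q')

/-- The composite correspondence as an endomorphism of one degree. -/
def endo (n n' : ℤ) (φ : T.gr Q n) (ψ : T.gr Q' n') (i : ℤ)
    (h : i + n + 2 * (dim Y.obj.left : ℤ) - 2 * (dim Q.obj.left : ℤ) + n' + 2 * (dim X.obj.left : ℤ) -
      2 * (dim Q'.obj.left : ℤ) = i) : T.gr X i →ₗ[K] T.gr X i :=
  (LinearEquiv.ofEq _ _ (congrArg (T.gr X) h)).toLinearMap ∘ₗ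
    corr T p' q' n' ψ (i + n + 2 * (dim Y.obj.left : ℤ) - 2 * (dim Q.obj.left : ℤ)) ∘ₗ corr T p q n φ i

include hQ hQ' in
/-- The trace formula for a composite of two correspondences. -/
theorem trace_formula (σ : Q ⟶ Q') (hσ₁ : σ ≫ p' = q) (hσ₂ : σ ≫ q' = p) (n n' : ℤ)
    (hd : ∀ i : ℤ, i + n + 2 * (dim Y.obj.left : ℤ) - 2 * (dim Q.obj.left : ℤ) + n' + 2 * (dim X.obj.left : ℤ) -
      2 * (dim Q'.obj.left : ℤ) = i)
    (φ : T.gr Q n) (ψ : T.gr Q' n') :
    T.tr Q ((φ : T.H Q) * T.pull σ (ψ : T.H Q')) =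
      ∑ i ∈ Finset.range (2 * dim X.obj.left + 1),
        (-1 : K) ^ i * LinearMap.trace K (T.gr X (i : ℤ)) (endo T p q p' q' n n' φ ψ i (hd i)) := by
  have e1 := dim_prod T p q hQ
  have e2 := dim_prod T p' q' hQ'
  let R : T.gr Q n → T.gr Q' n' → Prop := fun φ ψ => T.tr Q ((φ : T.H Q) * T.pull σ (ψ : T.H Q')) =
      ∑ i ∈ Finset.range (2 * dim X.obj.left + 1),
        (-1 : K) ^ i * LinearMap.trace K (T.gr X (i : ℤ)) (endo T p q p' q' n n' φ ψ i (hd i))
  change R φ ψ
  refine gr_prod_induction T p q hQ n (motive := fun φ => R φ ψ) (fun s t a b ha hb hst => ?_) ?_ ?_ ?_ φ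
  · refine gr_prod_induction T p' q' hQ' n' (motive := fun ψ => R _ ψ) (fun u v c d hc hd' huv => ?_) ?_ ?_ ?_ ψ
    all_goals dsimp only [R]
    · set φ₀ : T.gr Q n := ⟨_, mul_mem T Q (T.pull_mem p s a ha) (T.pull_mem q t b hb) hst⟩ with hφ₀
      set ψ₀ : T.gr Q' n' := ⟨_, mul_mem T Q' (T.pull_mem p' u c hc) (T.pull_mem q' v d hd') huv⟩ with hψ₀
      have hE : ∀ (i : ℤ) (x : T.gr X i), (endo T p q p' q' n n' φ₀ ψ₀ i (hd i) x : T.H X) =
          (T.tr X ((x : T.H X) * a) * T.tr Y (b * c)) • d := by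
        intro i x
        simp only [endo, LinearMap.comp_apply, LinearEquiv.coe_coe, LinearEquiv.coe_ofEq_apply]
        rw [corr_kunneth T p' q' hQ' ψ₀ hc hd' huv rfl, corr_kunneth T p q hQ φ₀ ha hb hst rfl, smul_mul_assoc,
          map_smul, smul_eq_mul]
      have htr : ∀ i : ℕ, LinearMap.trace K (T.gr X (i : ℤ)) (endo T p q p' q' n n' φ₀ ψ₀ i (hd i)) =
          if v = (i : ℤ) then T.tr X (d * a) * T.tr Y (b * c) else 0 := by
        intro i
        by_cases hv : v = (i : ℤ)
        · rw [if_pos hv]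
          set g : T.gr X (i : ℤ) →ₗ[K] K :=
            T.tr Y (b * c) • (T.tr X ∘ₗ LinearMap.mulRight K a ∘ₗ (T.gr X (i : ℤ)).subtype) with hg
          have : endo T p q p' q' n n' φ₀ ψ₀ i (hd i) = g.smulRight ⟨d, hv ▸ hd'⟩ := by
            ext x
            rw [hE]
            simp [g, mul_comm]
          rw [this, LinearMap.trace_smulRight]
          simp [g, mul_comm]
        · rw [if_neg hv]
          have : endo T p q p' q' n n' φ₀ ψ₀ i (hd i) = 0 := by
            refine LinearMap.ext fun x => Subtype.ext ?_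
            exact eq_zero_of_mem_mem T X (i := (i : ℤ)) (j := v) (Subtype.coe_prop _)
              (by rw [hE]; exact Submodule.smul_mem _ _ hd') (Ne.symm hv)
          rw [this, map_zero]
      simp only [htr]
      have hl : T.tr Q (T.pull p a * T.pull q b * T.pull σ (T.pull p' c * T.pull q' d)) =
          sgn K (t + u) v * (sgn K s v * T.tr X (d * a) * T.tr Y (b * c)) := by
        rw [map_mul (T.pull σ)]
        have r1 : T.pull σ (T.pull p' c) = T.pull q c := by rw [← hσ₁, T.pull_comp]; rfl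
        have r2 : T.pull σ (T.pull q' d) = T.pull p d := by rw [← hσ₂, T.pull_comp]; rfl
        rw [r1, r2, mul_assoc, ← mul_assoc (T.pull q b), ← map_mul (T.pull q),
          mul_comm_sgn T Q (T.pull_mem q _ _ (mul_mem T Y hb hc rfl)) (T.pull_mem p v d hd'), mul_smul_comm,
          map_smul, smul_eq_mul, ← mul_assoc (T.pull p a), ← map_mul (T.pull p), tr_kunneth T p q hQ,
          tr_comm T X ha hd']
      rw [hl]
      by_cases hbc : T.tr Y (b * c) = 0
      · simp [hbc]
      by_cases hda : T.tr X (d * a) = 0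
      · simp [hda]
      have htu : t + u = 2 * (dim Y.obj.left : ℤ) := by
        by_contra hne; exact hbc (tr_mul_eq_zero T Y hb hc hne)
      have hsv : v + s = 2 * (dim X.obj.left : ℤ) := by
        by_contra hne; exact hda (tr_mul_eq_zero T X hd' ha hne)
      have hv0 : 0 ≤ v ∧ v ≤ 2 * (dim X.obj.left : ℤ) := by
        by_contra hne
        apply hda
        rw [eq_zero_of_mem_of_lt T X hd' (by omega), zero_mul, map_zero]
      lift v to ℕ using hv0.1 with m
      simp only [Nat.cast_inj, mul_ite, mul_zero]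
      rw [Finset.sum_ite_eq, if_pos (Finset.mem_range.2 (by omega)), htu, sgn_of_even_left (even_two_mul _),
        one_mul, sgn_of_add_even m ⟨(dim X.obj.left : ℤ), by omega⟩ ⟨(dim X.obj.left : ℤ), by omega⟩]
      ring
    · simp [endo, corr_zero]
    · intro ψ₁ ψ₂ h1 h2
      simp only [Submodule.coe_add, map_add, mul_add, h1, h2, endo, corr_add, LinearMap.add_comp,
        LinearMap.comp_add, Finset.sum_add_distrib]
    · intro c ψ₁ h1
      simp only [Submodule.coe_smul, map_smul, mul_smul_comm, h1, endo, corr_smul, LinearMap.smul_comp,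
        LinearMap.comp_smul, Finset.smul_sum, smul_eq_mul]
      rw [Finset.mul_sum]
      exact Finset.sum_congr rfl fun i _ => by ring
  all_goals dsimp only [R]
  · simp [endo, corr_zero]
  · intro φ₁ φ₂ h1 h2
    simp only [Submodule.coe_add, map_add, add_mul, h1, h2, endo, corr_add, LinearMap.add_comp,
      LinearMap.comp_add, mul_add, Finset.sum_add_distrib]
  · intro c φ₁ h1
    simp only [Submodule.coe_smul, map_smul, smul_mul_assoc, h1, endo, corr_smul, LinearMap.smul_comp,
      LinearMap.comp_smul, smul_eq_mul]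
    rw [Finset.mul_sum]
    exact Finset.sum_congr rfl fun i _ => by ring

end Groth.Agent.WeilCohLib
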