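import Mathlib
import Groth.Prelude.Def_WeilCoh
import Groth.Agent.WeilCohLib.Classes
import Groth.Agent.WeilCohLib.Corr
import Groth.Agent.CompleteCurve.ProjSpace

/-!
Classes of graphs, invariance under automorphisms, classes of cycles.
-/

set_option autoImplicit false
set_option linter.style.haveILetI false
set_option linter.unusedSectionVars false

universe u v

noncomputable section

open AlgebraicGeometry CategoryTheory WeilCoh

namespace Groth.Agent.WeilCohLib

variable {k : Type u} [Field k]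

theorem compactSpace_var (X : Var k) : CompactSpace ↥X.obj.left := by
  obtain ⟨n, i, hi, h⟩ := X.property.2.1
  haveI : IsProper (CohB1.ProjSpaceOver.toBase n (Spec (CommRingCat.of k))) :=
    inferInstanceAs (IsProper (Limits.pullback.snd (CohB1.ProjSpace.toSpec n (ULift.{u} ℤ))
      (specULiftZIsTerminal.from (Spec (CommRingCat.of k)))))
  haveI : QuasiCompact X.obj.hom := by rw [← h]; infer_instance
  exact QuasiCompact.compactSpace_of_compactSpace X.obj.hom

/-- The map to a product given by two maps. -/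
theorem exists_lift {X Y Q Z : Var k} {p : Q ⟶ X} {q : Q ⟶ Y} (hQ : IsProd p q) (f : Z ⟶ X) (g : Z ⟶ Y) :
    ∃ h : Z ⟶ Q, h ≫ p = f ∧ h ≫ q = g := by
  have w : sm f ≫ X.obj.hom = sm g ≫ Y.obj.hom := by rw [sm_comp_hom, sm_comp_hom]
  have hw : hQ.lift (sm f) (sm g) w ≫ Q.obj.hom = Z.obj.hom := by
    rw [← sm_comp_hom p, ← Category.assoc, IsPullback.lift_fst, sm_comp_hom]
  refine ⟨ObjectProperty.homMk (Over.homMk (hQ.lift (sm f) (sm g) w) hw), ?_, ?_⟩
  all_goals apply ObjectProperty.hom_ext; apply Over.OverMorphism.ext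
  · exact hQ.lift_fst _ _ _
  · exact hQ.lift_snd _ _ _

theorem eq_of_comp_eq {X Y Q Z : Var k} {p : Q ⟶ X} {q : Q ⟶ Y} (hQ : IsProd p q) {f g : Z ⟶ Q}
    (h1 : f ≫ p = g ≫ p) (h2 : f ≫ q = g ≫ q) : f = g := by
  apply ObjectProperty.hom_ext; apply Over.OverMorphism.ext
  exact hQ.hom_ext (congrArg (fun m : Z ⟶ X => m.hom.left) h1) (congrArg (fun m : Z ⟶ Y => m.hom.left) h2)

variable [IsAlgClosed k] {K : Type v} [Field K] [CharZero K] (T : Theory k K)

theorem cl_section_mem {X Y Q : Var k} {p : Q ⟶ X} {q : Q ⟶ Y} (hQ : IsProd p q) {j : X ⟶ Q} (hj : j ≫ p = 𝟙 X) :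
    T.cl Q (sm j (genericPoint X.obj.left)) ∈ T.gr Q (2 * (dim Y.obj.left : ℤ)) :=
  codim_graph hQ hj T ▸ T.cl_mem Q (sm j (genericPoint X.obj.left))

/-- The class of a graph through dual bases. -/
theorem cl_graph_eq {X Y Q : Var k} {p : Q ⟶ X} {q : Q ⟶ Y} (hQ : IsProd p q) (φ : X ⟶ Y) {j : X ⟶ Q}
    (hjp : j ≫ p = 𝟙 X) (hjq : j ≫ q = φ) (ι : ℕ → Type) [∀ r, Fintype (ι r)] [∀ r, DecidableEq (ι r)]
    (e : (r : ℕ) → Module.Basis (ι r) K ↥(T.gr Y (r : ℤ)))
    (f : (r : ℕ) → ι r → ↥(T.gr Y (2 * (dim Y.obj.left : ℤ) - r)))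
    (hef : ∀ r, r ≤ 2 * dim Y.obj.left → ∀ i l : ι r, T.tr Y ((f r l : T.H Y) * (e r i : T.H Y)) = if i = l then 1 else 0) :
    T.cl Q (sm j (genericPoint X.obj.left)) =
      ∑ r ∈ Finset.range (2 * dim Y.obj.left + 1), ∑ i : ι r,
        T.pull p (T.pull φ (e r i : T.H Y)) * T.pull q (f r i : T.H Y) := by
  have hd := dim_prod T p q hQ
  refine eq_of_tr_kunneth T p q hQ (m := 2 * (dim Y.obj.left : ℤ)) (m' := 2 * (dim X.obj.left : ℤ)) (by omega)
    (cl_section_mem T hQ hjp) (Submodule.sum_mem _ fun r _ => Submodule.sum_mem _ fun i _ =>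
      mul_mem T Q (T.pull_mem p _ _ (T.pull_mem φ _ _ (e r i).2)) (T.pull_mem q _ _ (f r i).2) (by omega))
    fun s t x y hx hy hst => ?_
  have hz : T.pull p x * T.pull q y ∈ T.gr Q (2 * (dim X.obj.left : ℤ)) :=
    mul_mem T Q (T.pull_mem p s x hx) (T.pull_mem q t y hy) hst
  have rp : T.pull j (T.pull p x) = x := by
    rw [← AlgHom.comp_apply, ← T.pull_comp, hjp, T.pull_id]; rfl
  have rq : T.pull j (T.pull q y) = T.pull φ y := by
    rw [← AlgHom.comp_apply, ← T.pull_comp, hjq]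
  rw [tr_cl_section T hjp hz, map_mul, rp, rq, Finset.sum_mul, map_sum]
  simp only [Finset.sum_mul, map_sum]
  have hterm : ∀ (r : ℕ) (i : ι r),
      T.tr Q (T.pull p (T.pull φ (e r i : T.H Y)) * T.pull q (f r i : T.H Y) * (T.pull p x * T.pull q y)) =
        T.tr X (x * T.pull φ (e r i : T.H Y)) * T.tr Y ((f r i : T.H Y) * y) := by
    intro r i
    have he := T.pull_mem φ _ _ (e r i).2
    rw [mul_assoc, ← mul_assoc (T.pull q (f r i : T.H Y)),
      mul_comm_sgn T Q (T.pull_mem q _ _ (f r i).2) (T.pull_mem p s x hx), smul_mul_assoc, mul_smul_comm,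
      map_smul, smul_eq_mul, mul_assoc (T.pull p x), ← map_mul (T.pull q), ← mul_assoc, ← map_mul (T.pull p),
      tr_kunneth T p q hQ, tr_comm T X he hx]
    by_cases h1 : T.tr Y ((f r i : T.H Y) * y) = 0
    · rw [h1]; ring
    by_cases h2 : T.tr X (x * T.pull φ (e r i : T.H Y)) = 0
    · rw [h2]; ring
    have ht : 2 * (dim Y.obj.left : ℤ) - r + t = 2 * (dim Y.obj.left : ℤ) := by
      by_contra hne; exact h1 (tr_mul_eq_zero T Y (f r i).2 hy hne)
    have e2 : sgn K (2 * (dim Y.obj.left : ℤ) - r) s = sgn K (r : ℤ) s := by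
      simp only [sgn]
      congr 1
      simp only [Int.even_mul, Int.even_sub, even_two_mul, true_iff]
    rw [e2, ← mul_assoc, ← mul_assoc, sgn_mul_self, one_mul]
  simp only [hterm]
  by_cases hy0 : y = 0
  · simp [hy0]
  have ht0 : 0 ≤ t ∧ t ≤ 2 * (dim Y.obj.left : ℤ) := by
    by_contra hne
    exact hy0 (eq_zero_of_mem_of_lt T Y hy (by omega))
  lift t to ℕ using ht0.1 with t'
  rw [Finset.sum_eq_single t' (fun r _ hr => Finset.sum_eq_zero fun i _ => by
      rw [tr_mul_eq_zero T Y (f r i).2 hy (by omega), mul_zero]) (fun h => absurd (Finset.mem_range.2 (by omega)) h)]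
  have hy' : y = ∑ i : ι t', T.tr Y ((f t' i : T.H Y) * y) • (e t' i : T.H Y) := by
    have hs : (∑ i : ι t', (e t').repr ⟨y, hy⟩ i • (e t' i : T.H Y)) = y := by
      have := congrArg (T.gr Y (t' : ℤ)).subtype ((e t').sum_repr ⟨y, hy⟩)
      simpa only [map_sum, map_smul, Submodule.subtype_apply] using this
    conv_lhs => rw [← hs]
    refine Finset.sum_congr rfl fun l _ => ?_
    congr 1
    conv_rhs => rw [← hs]
    simp [Finset.mul_sum, mul_smul_comm, hef t' (by omega)]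
  conv_lhs => rw [hy']
  simp [map_sum, Finset.mul_sum, mul_comm]

/-- The action of a transposed graph is pull-back. -/
theorem corr_transposeGraph {X Y Q : Var k} {p : Q ⟶ X} {q : Q ⟶ Y} (hQ : IsProd p q) (φ : Y ⟶ X) {j : Y ⟶ Q}
    (hjq : j ≫ q = 𝟙 Y) (hjp : j ≫ p = φ) (w : T.gr Q (2 * (dim X.obj.left : ℤ)))
    (hw : (w : T.H Q) = T.cl Q (sm j (genericPoint Y.obj.left))) (i : ℤ) (x : T.gr X i) :
    (corr T p q (2 * (dim X.obj.left : ℤ)) w i x : T.H Y) = T.pull φ (x : T.H X) := by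
  have hd := dim_prod T p q hQ
  rw [corr_apply]
  refine push_eq T q _ _ ((show i = i + 2 * (dim X.obj.left : ℤ) + 2 * (dim Y.obj.left : ℤ) -
    2 * (dim Q.obj.left : ℤ) by omega) ▸ T.pull_mem φ i x x.2) fun b hb => ?_
  have hz : T.pull p (x : T.H X) * T.pull q b ∈ T.gr Q (2 * (dim Y.obj.left : ℤ)) :=
    mul_mem T Q (T.pull_mem p i x x.2) (T.pull_mem q _ b hb) (by omega)
  dsimp only
  rw [← commute_even T Q w.2 (even_two_mul _), mul_assoc, hw, tr_cl_section T hjq hz, map_mul (T.pull j),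
    ← AlgHom.comp_apply, ← T.pull_comp, hjp, ← AlgHom.comp_apply, ← T.pull_comp, hjq, T.pull_id]
  rfl

theorem tr_pull_involution {Q : Var k} {σ : Q ⟶ Q} (hσ : σ ≫ σ = 𝟙 Q) {z : T.H Q}
    (hz : z ∈ T.gr Q (2 * (dim Q.obj.left : ℤ))) : T.tr Q (T.pull σ z) = T.tr Q z := by
  have h := tr_cl_section T hσ hz
  have hη : sm σ (genericPoint Q.obj.left) = genericPoint Q.obj.left := by
    have h1 : sm σ (sm σ (genericPoint Q.obj.left)) = genericPoint Q.obj.left := by
      rw [← Scheme.Hom.comp_apply, sm_comp_eq hσ]; rfl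
    have h2 : sm σ (genericPoint Q.obj.left) ⤳ sm σ (sm σ (genericPoint Q.obj.left)) :=
      (genericPoint_specializes _).map (sm σ).continuous
    rw [h1] at h2
    exact (h2.antisymm (genericPoint_specializes _)).eq
  rw [hη, cl_genericPoint T, one_mul] at h
  exact h.symm

theorem pull_cl_involution {Q : Var k} {σ : Q ⟶ Q} (hσ : σ ≫ σ = 𝟙 Q) (ξ : Q.obj.left) :
    T.pull σ (T.cl Q ξ) = T.cl Q (sm σ ξ) := by
  have hp := pdim_section hσ ξ
  have hle := pdim_le_dim Q.obj.hom ξ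
  have hc : codim Q.obj.left (sm σ ξ) = codim Q.obj.left ξ := by rw [codim, codim, hp]
  refine eq_of_tr T Q (i := 2 * (codim Q.obj.left ξ : ℤ)) (j := 2 * (pdim Q.obj.left ξ : ℤ))
    (by simp only [codim]; omega) (T.pull_mem σ _ _ (T.cl_mem Q ξ)) (hc ▸ T.cl_mem Q (sm σ ξ)) fun b hb => ?_
  have hb' : T.pull σ (T.pull σ b) = b := by rw [← AlgHom.comp_apply, ← T.pull_comp, hσ, T.pull_id]; rfl
  conv_lhs => rw [← hb', ← map_mul (T.pull σ)]
  rw [tr_pull_involution T hσ (mul_mem T Q (T.cl_mem Q ξ) (T.pull_mem σ _ b hb) (by simp only [codim]; omega)),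
    T.cl_push σ ξ b hb, residueDegree_section hσ, Nat.cast_one, one_mul]

theorem pull_mem_span_involution {Q : Var k} {σ : Q ⟶ Q} (hσ : σ ≫ σ = 𝟙 Q) {z : T.H Q}
    (hz : z ∈ Submodule.span K (Set.range (T.cl Q))) : T.pull σ z ∈ Submodule.span K (Set.range (T.cl Q)) := by
  have h : Submodule.span K (Set.range (T.cl Q)) ≤
      (Submodule.span K (Set.range (T.cl Q))).comap (T.pull σ).toLinearMap := Submodule.span_le.2 <| by
    rintro _ ⟨ξ, rfl⟩
    show T.pull σ (T.cl Q ξ) ∈ Submodule.span K (Set.range (T.cl Q))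
    rw [pull_cl_involution T hσ ξ]
    exact Submodule.subset_span ⟨_, rfl⟩
  exact h hz

/-- The trace against the class of a point set pushed forward. -/
theorem tr_cl_pull {X Y : Var k} (f : X ⟶ Y) (ξ : X.obj.left) (b : T.H Y) :
    T.tr X (T.cl X ξ * T.pull f b) = ((sm f).residueDegree ξ : K) * T.tr Y (T.cl Y (sm f ξ) * b) := by
  refine homogeneous_induction T Y
    (p := fun b => T.tr X (T.cl X ξ * T.pull f b) = ((sm f).residueDegree ξ : K) * T.tr Y (T.cl Y (sm f ξ) * b)) b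
    (fun m b hb => ?_) fun a c ha hc => by simp only [map_add, mul_add, ha, hc]
  have hle := pdim_le_dim X.obj.hom ξ
  by_cases hm : m = 2 * (pdim X.obj.left ξ : ℤ)
  · exact T.cl_push f ξ b (hm ▸ hb)
  · rw [tr_mul_eq_zero T X (T.cl_mem X ξ) (T.pull_mem f m b hb) (by simp only [codim]; omega)]
    by_cases hd : (sm f).residueDegree ξ = 0
    · rw [hd, Nat.cast_zero, zero_mul]
    · have h2 := pdim_image_eq f ξ hd
      have h3 := pdim_le_dim Y.obj.hom (sm f ξ)
      rw [tr_mul_eq_zero T Y (T.cl_mem Y (sm f ξ)) hb (by simp only [codim]; omega), mul_zero]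

theorem support_finite (X : Var k) (α : AlgebraicCycle X.obj.left ℤ) : (Function.support ⇑α).Finite := by
  haveI := compactSpace_var X
  simpa using α.locallyFiniteSupport.finite_inter_support_of_isCompact isCompact_univ

/-- The trace against the class of a cycle, as a sum over a finite set. -/
theorem tr_clCyc_eq (X : Var k) (α : AlgebraicCycle X.obj.left ℤ) (b : T.H X) (s : Finset X.obj.left)
    (hs : Function.support ⇑α ⊆ s) :
    T.tr X (T.clCyc X α * b) = ∑ ξ ∈ s, ((α ξ : ℤ) : K) * T.tr X (T.cl X ξ * b) := by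
  have h : T.clCyc X α = ∑ ξ ∈ s, ((α ξ : ℤ) : K) • T.cl X ξ := by
    rw [TheoryOn.clCyc]
    refine finsum_eq_sum_of_support_subset _ fun ξ hξ => hs ?_
    intro h0
    exact hξ (by simp [h0])
  rw [h, Finset.sum_mul, map_sum]
  simp only [smul_mul_assoc, map_smul, smul_eq_mul]

end Groth.Agent.WeilCohLib
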