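import Mathlib
import Groth.Prelude.Def_WeilCoh
import Groth.Agent.WeilCohLib.Frob
import Groth.Agent.WeilCohLib.Graph
import Groth.Agent.WeilCohLib.FrobAct

/-!
Fixed points of the powers of the geometric Frobenius: they are closed and the graph meets the diagonal
transversally; the intersection number is their number.
-/

set_option autoImplicit false
set_option linter.style.haveILetI false
set_option linter.unusedSectionVars false

universe u v

noncomputable section

open AlgebraicGeometry CategoryTheory WeilCoh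

namespace Groth.Agent.WeilCohLib

theorem residueDegree_comp' {X Y Z : Scheme.{u}} (f : X ⟶ Y) (g : Y ⟶ Z) (x : X) :
    (f ≫ g).residueDegree x = g.residueDegree (f x) * f.residueDegree x := by
  unfold Scheme.Hom.residueDegree
  letI a₁ : Algebra (Z.residueField (g (f x))) (Y.residueField (f x)) := (g.residueFieldMap (f x)).hom.toAlgebra
  letI a₂ : Algebra (Y.residueField (f x)) (X.residueField x) := (f.residueFieldMap x).hom.toAlgebra
  letI a₃ : Algebra (Z.residueField (g (f x))) (X.residueField x) := ((f ≫ g).residueFieldMap x).hom.toAlgebra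
  haveI : IsScalarTower (Z.residueField (g (f x))) (Y.residueField (f x)) (X.residueField x) :=
    .of_algebraMap_eq fun r => by
      show (f ≫ g).residueFieldMap x r = f.residueFieldMap x (g.residueFieldMap (f x) r)
      exact congrArg (fun φ => φ r) (Scheme.residueFieldMap_comp f g x)
  exact (Module.finrank_mul_finrank (Z.residueField (g (f x))) (Y.residueField (f x)) (X.residueField x)).symm

theorem residueDegree_congr {X Y : Scheme.{u}} {f g : X ⟶ Y} (h : f = g) (x : X) :
    f.residueDegree x = g.residueDegree x := by subst h; rfl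

/-- Absolute Frobenius commutes with morphisms from local spectra. -/
theorem comp_frob {X : Scheme.{u}} (FX : X ⟶ X) (q : ℕ) (hle : ∀ U : X.Opens, U ≤ FX ⁻¹ᵁ U)
    (hFapp : ∀ (U : X.Opens) (s : Γ(X, U)), (FX.appLE U U (hle U)).hom s = s ^ q)
    {R : CommRingCat.{u}} [IsLocalRing R] (t : Spec R ⟶ X) (φ : R ⟶ R) (hφ : ∀ a : R, φ a = a ^ q) :
    t ≫ FX = Spec.map φ ≫ t := by
  obtain ⟨_, ⟨U, hU, rfl⟩, hxU, -⟩ :=
    X.isBasis_affineOpens.exists_subset_of_mem_open (Set.mem_univ (t (IsLocalRing.closedPoint R))) isOpen_univ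
  have ht : t = Spec.map (X.presheaf.germ U _ hxU ≫ Scheme.stalkClosedPointTo t) ≫ hU.fromSpec := by
    rw [Spec.map_comp, Category.assoc, show Spec.map (X.presheaf.germ U _ hxU) ≫ hU.fromSpec = hU.fromSpecStalk hxU from rfl,
      hU.fromSpecStalk_eq_fromSpecStalk, Scheme.Spec_stalkClosedPointTo_fromSpecStalk]
  rw [ht, Category.assoc, ← IsAffineOpen.SpecMap_appLE_fromSpec FX hU hU (hle U), ← Spec.map_comp_assoc,
    ← Spec.map_comp_assoc]
  congr 2
  ext a
  show (X.presheaf.germ U _ hxU ≫ Scheme.stalkClosedPointTo t) ((FX.appLE U U (hle U)).hom a) = φ _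
  rw [hφ, hFapp, map_pow]
  rfl

section Iterate

variable {Z : Scheme.{u}} (F : Z ⟶ Z)

/-- The iterates of an endomorphism. -/
def iter : ℕ → (Z ⟶ Z) := fun n => Nat.rec (𝟙 Z) (fun _ g => g ≫ F) n

theorem iter_zero : iter F 0 = 𝟙 Z := rfl
theorem iter_succ (n : ℕ) : iter F (n + 1) = iter F n ≫ F := rfl

end Iterate

variable (k₀ : Type u) [Field k₀] [Finite k₀] (k : Type u) [Field k] [IsAlgClosed k] [Algebra k₀ k]
variable {X Z : Scheme.{u}} {g : Z ⟶ Spec (CommRingCat.of k)} [LocallyOfFiniteType g]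
  {π : Z ⟶ X} {f : X ⟶ Spec (CommRingCat.of k₀)}
  (hπ : IsPullback π g f (Spec.map (CommRingCat.ofHom (algebraMap k₀ k))))
  (FX : X ⟶ X) (hFb : FX.base = 𝟙 _) (hle : ∀ U : X.Opens, U ≤ FX ⁻¹ᵁ U)
  (hFapp : ∀ (U : X.Opens) (s : Γ(X, U)), (FX.appLE U U (hle U)).hom s = s ^ Nat.card k₀)
  (F : Z ⟶ Z) (hFg : F ≫ g = g) (hF : F ≫ π = π ≫ FX)

include hFg in
theorem iter_comp (m : ℕ) : iter F m ≫ g = g := by
  induction m with
  | zero => exact Category.id_comp _
  | succ m ih => rw [iter_succ, Category.assoc, hFg, ih]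

include hπ hFb hFapp hFg hF in
theorem residueDegree_iter (m : ℕ) (z : Z) :
    (iter F m).residueDegree z = Nat.card k₀ ^ (m * pdim Z z) := by
  induction m with
  | zero => rw [iter_zero, Scheme.Hom.residueDegree_id, zero_mul, pow_zero]
  | succ m ih =>
    have h1 : pdim Z z = pdim Z (iter F m z) := pdim_eq_of_residueDegree_ne_zero g (iter F m) g (iter_comp k F hFg m) z
      (by rw [ih]; exact pow_ne_zero _ Nat.card_pos.ne')
    rw [iter_succ, residueDegree_comp', ih, residueDegree_frob k₀ k hπ FX hFb hle hFapp F hFg hF, ← h1, ← pow_add]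
    ring_nf

include hπ hFb hFapp hFg hF in
theorem isClosed_iter (m : ℕ) (z : Z) (hz : IsClosed ({z} : Set Z)) : IsClosed ({iter F m z} : Set Z) := by
  rw [isClosed_iff_pdim_eq_zero g] at hz ⊢
  rw [← pdim_eq_of_residueDegree_ne_zero g (iter F m) g (iter_comp k F hFg m) z
    (by rw [residueDegree_iter k₀ k hπ FX hFb hle hFapp F hFg hF]; exact pow_ne_zero _ Nat.card_pos.ne'), hz]

include hπ hFb hFapp hFg hF in
/-- The differential of Frobenius vanishes at closed points. -/
theorem stalkMap_frob_mem_sq (y : Z) (hy : IsClosed ({y} : Set Z)) (a : Z.presheaf.stalk (F y))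
    (ha : a ∈ IsLocalRing.maximalIdeal (Z.presheaf.stalk (F y))) :
    F.stalkMap y a ∈ IsLocalRing.maximalIdeal (Z.presheaf.stalk y) ^ 2 := by
  obtain ⟨p, e, hp, hc, he, hq⟩ := exists_prime_card k₀ k
  haveI := Fact.mk hp
  set m := IsLocalRing.maximalIdeal (Z.presheaf.stalk y) with hm
  let D : CommRingCat.{u} := CommRingCat.of (Z.presheaf.stalk y ⧸ m ^ 2)
  let mk : Z.presheaf.stalk y ⟶ D := CommRingCat.ofHom (Ideal.Quotient.mk (m ^ 2))
  haveI : Nontrivial D := Ideal.Quotient.nontrivial_iff.2 fun h => (IsLocalRing.maximalIdeal.isMaximal _).ne_top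
    (eq_top_iff.2 (h ▸ Ideal.pow_le_self two_ne_zero))
  haveI : IsLocalRing D := IsLocalRing.of_surjective' (Ideal.Quotient.mk (m ^ 2)) Ideal.Quotient.mk_surjective
  let e' : Spec D ⟶ Z := Spec.map mk ≫ Z.fromSpecStalk y
  let ι : CommRingCat.of k ⟶ D := Spec.preimage (e' ≫ g)
  have hι : Spec.map ι = e' ≫ g := Spec.map_preimage _
  haveI : CharP D p := (RingHom.charP_iff ι.hom ι.hom.injective p).1 hc
  haveI : ExpChar D p := .prime hp
  let φ : D ⟶ D := CommRingCat.ofHom (iterateFrobenius D p e)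
  have hφ : ∀ d : D, φ d = d ^ Nat.card k₀ := fun d => by
    rw [hq]; exact iterateFrobenius_def ..
  let res : D ⟶ Z.residueField y :=
    CommRingCat.ofHom (Ideal.Quotient.lift (m ^ 2) (Z.residue y).hom fun b hb => by
      exact (IsLocalRing.residue_eq_zero_iff b).2 (Ideal.pow_le_self two_ne_zero hb))
  let ρ : D ⟶ CommRingCat.of k := res ≫ (residueFieldIsoBase g y hy).hom
  have hs : Spec.map ρ ≫ e' = pointOfClosedPoint g y hy := by
    rw [Spec.map_comp, Category.assoc]
    congr 1
    rw [← Spec.map_comp_assoc]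
    rfl
  have hρι : ι ≫ ρ = 𝟙 _ := by
    refine Spec.map_injective ?_
    rw [Spec.map_comp, hι, ← Category.assoc, hs, pointOfClosedPoint_comp, Spec.map_id]
  have hker : ∀ d : D, ρ d = 0 → d ^ 2 = 0 := by
    intro d hd
    obtain ⟨b, rfl⟩ := Ideal.Quotient.mk_surjective d
    have hb : b ∈ m := by
      refine (IsLocalRing.residue_eq_zero_iff b).1 ?_
      have h0 : (residueFieldIsoBase g y hy).hom (Z.residue y b) = (residueFieldIsoBase g y hy).hom 0 := by
        rw [map_zero]; exact hd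
      exact (ConcreteCategory.bijective_of_isIso (residueFieldIsoBase g y hy).hom).1 h0
    show Ideal.Quotient.mk (m ^ 2) b ^ 2 = 0
    rw [← map_pow, Ideal.Quotient.eq_zero_iff_mem]
    exact Ideal.pow_mem_pow hb 2
  have hφfac : φ ≫ ρ ≫ ι = φ := by
    ext d
    have hd : ρ (d - ι (ρ d)) = 0 := by
      rw [map_sub, sub_eq_zero]; exact (congrArg (fun χ => χ (ρ d)) hρι).symm
    have hq2 : 2 ≤ p ^ e := le_trans hp.two_le (Nat.le_self_pow he.ne' p)
    show ι (ρ (iterateFrobenius D p e d)) = iterateFrobenius D p e d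
    have h1 : iterateFrobenius D p e (d - ι (ρ d)) = 0 := by
      rw [iterateFrobenius_def]; exact pow_eq_zero_of_le hq2 (hker _ hd)
    rw [map_sub, sub_eq_zero] at h1
    rw [h1, iterateFrobenius_def]
    simp only [map_pow]
    congr 2
    exact congrArg (fun χ => χ (ρ d)) hρι
  have hkey : e' ≫ F = Spec.map ι ≫ Spec.map ρ ≫ e' ≫ F := by
    apply hπ.hom_ext
    · simp only [Category.assoc, hF]
      rw [← Category.assoc e' π FX, comp_frob FX _ hle hFapp (e' ≫ π) φ hφ, ← Spec.map_comp_assoc φ ρ,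
        ← Spec.map_comp_assoc (φ ≫ ρ) ι, Category.assoc φ ρ ι, hφfac]
    · simp only [Category.assoc, hFg]
      rw [← hι, ← Spec.map_comp ι ρ, hρι, Spec.map_id, Category.comp_id]
  have hstalk : F.stalkMap y ≫ mk = F.stalkMap y ≫ mk ≫ ρ ≫ ι := by
    refine Spec.map_injective ?_
    rw [← cancel_mono (Z.fromSpecStalk (F y))]
    have e1 : Spec.map (F.stalkMap y ≫ mk) ≫ Z.fromSpecStalk (F y) = e' ≫ F := by
      rw [Spec.map_comp, Category.assoc, Scheme.SpecMap_stalkMap_fromSpecStalk, ← Category.assoc]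
    rw [e1, show F.stalkMap y ≫ mk ≫ ρ ≫ ι = (F.stalkMap y ≫ mk) ≫ ρ ≫ ι by simp only [Category.assoc],
      Spec.map_comp, Spec.map_comp ρ ι, Category.assoc, Category.assoc, e1]
    exact hkey
  have h0 : res (mk (F.stalkMap y a)) = 0 := by
    show Ideal.Quotient.lift _ _ _ (Ideal.Quotient.mk _ (F.stalkMap y a)) = 0
    exact (Ideal.Quotient.lift_mk _ _ _).trans ((IsLocalRing.residue_eq_zero_iff _).2 (map_nonunit (F.stalkMap y).hom a ha))
  rw [← Ideal.Quotient.eq_zero_iff_mem]
  refine (congrArg (fun χ => χ a) hstalk).trans ?_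
  show ι ((residueFieldIsoBase g y hy).hom (res (mk (F.stalkMap y a)))) = 0
  rw [h0, map_zero, map_zero]

include hπ hFb hFapp hFg hF in
theorem stalkMap_iter_mem_sq (m : ℕ) (y : Z) (hy : IsClosed ({y} : Set Z)) (a : Z.presheaf.stalk (iter F (m + 1) y))
    (ha : a ∈ IsLocalRing.maximalIdeal (Z.presheaf.stalk (iter F (m + 1) y))) :
    (iter F (m + 1)).stalkMap y a ∈ IsLocalRing.maximalIdeal (Z.presheaf.stalk y) ^ 2 := by
  have hc := isClosed_iter k₀ k hπ FX hFb hle hFapp F hFg hF m y hy
  have h1 := stalkMap_frob_mem_sq k₀ k hπ FX hFb hle hFapp F hFg hF (iter F m y) hc a ha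
  have h2 := Ideal.mem_map_of_mem ((iter F m).stalkMap y).hom h1
  rw [Ideal.map_pow] at h2
  have h3 : Ideal.map ((iter F m).stalkMap y).hom (IsLocalRing.maximalIdeal (Z.presheaf.stalk (iter F m y))) ≤
      IsLocalRing.maximalIdeal (Z.presheaf.stalk y) := ((IsLocalRing.local_hom_TFAE _).out 0 2).1 (inferInstance : IsLocalHom ((iter F m).stalkMap y).hom)
  show (iter F m ≫ F).stalkMap y a ∈ _
  rw [Scheme.Hom.stalkMap_comp]
  exact Ideal.pow_right_mono h3 2 h2

section StalkTransport

variable {A B C : Scheme.{u}}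

/-- The map on stalks towards a point equal to the image. -/
def st (φ : A ⟶ B) {x : A} {y : B} (h : φ x = y) : B.presheaf.stalk y ⟶ A.presheaf.stalk x :=
  B.presheaf.stalkSpecializes (h ▸ specializes_rfl) ≫ φ.stalkMap x

theorem st_rfl (φ : A ⟶ B) (x : A) : st φ (rfl : φ x = φ x) = φ.stalkMap x := by
  rw [st, TopCat.Presheaf.stalkSpecializes_refl, Category.id_comp]

theorem st_comp (φ : A ⟶ B) (ψ : B ⟶ C) {x : A} {y : B} {z : C} (hy : φ x = y) (hz : ψ y = z) (h : (φ ≫ ψ) x = z) :
    st ψ hz ≫ st φ hy = st (φ ≫ ψ) h := by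
  subst hy
  subst hz
  rw [st_rfl, st_rfl, ← Scheme.Hom.stalkMap_comp]
  exact (st_rfl (φ ≫ ψ) x).symm

theorem st_congr {φ ψ : A ⟶ B} (e : φ = ψ) {x : A} {y : B} (h : φ x = y) : st φ h = st ψ (e ▸ h) := by
  subst e; rfl

theorem st_id (x : A) (h : (𝟙 A : A ⟶ A) x = x) : st (𝟙 A) h = 𝟙 _ := by
  refine (st_rfl (𝟙 A) x).trans ?_
  simp

theorem mem_maximalIdeal_st (φ : A ⟶ B) {x : A} {y : B} (h : φ x = y) {a : B.presheaf.stalk y}
    (ha : a ∈ IsLocalRing.maximalIdeal (B.presheaf.stalk y)) : st φ h a ∈ IsLocalRing.maximalIdeal (A.presheaf.stalk x) := by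
  subst h
  rw [st_rfl]
  exact map_nonunit (φ.stalkMap x).hom a ha

theorem specMap_eq_zero_of_st (j : A ⟶ B) [IsIntegral A] {x : A} {y : B} (h : j x = y)
    (hsp : j (genericPoint A) ⤳ y) {z : B.presheaf.stalk y} (hz : st j h z = 0) :
    Cyc.specMap y (j (genericPoint A)) hsp z = 0 := by
  subst h
  rw [st_rfl] at hz
  show B.residue _ (B.presheaf.stalkSpecializes hsp z) = 0
  refine (IsLocalRing.residue_eq_zero_iff _).2 fun hu => ?_
  have h2 : IsUnit (j.stalkMap (genericPoint A) (B.presheaf.stalkSpecializes hsp z)) := hu.map _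
  have h3 : j.stalkMap (genericPoint A) (B.presheaf.stalkSpecializes (j.base.hom.map_specializes (genericPoint_specializes x)) z) =
      A.presheaf.stalkSpecializes (genericPoint_specializes x) (j.stalkMap x z) :=
    Scheme.Hom.stalkSpecializes_stalkMap_apply j _ _ _ z
  rw [hz, map_zero] at h3
  exact not_isUnit_zero (h3 ▸ h2)

/-- A graph whose map kills the cotangent space meets the diagonal with multiplicity one. -/
theorem preimMult_eq_one {P : Scheme.{u}} [IsIntegral A] [IsLocallyNoetherian A] (p q : P ⟶ A) (j d : A ⟶ P) (G : A ⟶ A)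
    (hjp : j ≫ p = 𝟙 A) (hjq : j ≫ q = G) (hdp : d ≫ p = 𝟙 A) (hdq : d ≫ q = 𝟙 A) (x : A) (hx : j x = d x)
    (hG : ∀ a ∈ IsLocalRing.maximalIdeal (A.presheaf.stalk (G x)),
      G.stalkMap x a ∈ IsLocalRing.maximalIdeal (A.presheaf.stalk x) ^ 2)
    (hc : d x ∈ closure ({j (genericPoint A)} : Set P)) :
    preimMult d (j (genericPoint A)) x hc = 1 := by
  have hp : p (d x) = x := by rw [← Scheme.Hom.comp_apply, hdp]; rfl
  have hq : q (d x) = x := by rw [← Scheme.Hom.comp_apply, hdq]; rfl
  have hGx : G x = x := by rw [← hjq, Scheme.Hom.comp_apply, hx, hq]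
  set m := IsLocalRing.maximalIdeal (A.presheaf.stalk x) with hm
  set J := Ideal.map (d.stalkMap x).hom
    (RingHom.ker (Cyc.specMap (d x) (j (genericPoint A)) (specializes_iff_mem_closure.mpr hc))) with hJdef
  have hJle : J ≤ m := by
    refine Ideal.map_le_iff_le_comap.2 fun b hb => ?_
    exact map_nonunit (d.stalkMap x).hom b (IsLocalRing.le_maximalIdeal (RingHom.ker_ne_top _) hb)
  have hgx : ∀ a ∈ m, st G hGx a ∈ m ^ 2 := by
    intro a ha
    have hs : G x ⤳ x := by rw [hGx]
    have h1 : A.presheaf.stalkSpecializes hs a ∈ IsLocalRing.maximalIdeal (A.presheaf.stalk (G x)) := by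
      have : ∀ {u w : A} (e : u = w) (hs : u ⤳ w) (b : A.presheaf.stalk w), b ∈ IsLocalRing.maximalIdeal (A.presheaf.stalk w) →
          A.presheaf.stalkSpecializes hs b ∈ IsLocalRing.maximalIdeal (A.presheaf.stalk u) := by
        intro u w e hs b hb
        subst e
        simpa [TopCat.Presheaf.stalkSpecializes_refl] using hb
      exact this hGx _ a ha
    exact hG _ h1
  have hz : ∀ a ∈ m, a ∈ J ⊔ m • m := by
    intro a ha
    let b := st G hGx a
    let z : P.presheaf.stalk (d x) := st q hq a - st p hp b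
    have hjz : st j hx z = 0 := by
      have e1 : st j hx (st q hq a) = b :=
        congrArg (fun χ => χ a) ((st_comp j q hx hq (by rw [Scheme.Hom.comp_apply, hx, hq])).trans (st_congr hjq _))
      have e2 : st j hx (st p hp b) = b :=
        congrArg (fun χ => χ b) (((st_comp j p hx hp (by rw [Scheme.Hom.comp_apply, hx, hp])).trans (st_congr hjp _)).trans (st_id x rfl))
      simp only [z, map_sub, e1, e2, sub_self]
    have hzker : z ∈ RingHom.ker (Cyc.specMap (d x) (j (genericPoint A)) (specializes_iff_mem_closure.mpr hc)) :=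
      specMap_eq_zero_of_st j hx _ hjz
    have hdz : d.stalkMap x z = a - b := by
      have e1 : d.stalkMap x (st q hq a) = a := by
        rw [← st_rfl]
        exact congrArg (fun χ => χ a) (((st_comp d q rfl hq (by rw [Scheme.Hom.comp_apply, hq])).trans (st_congr hdq _)).trans (st_id x rfl))
      have e2 : d.stalkMap x (st p hp b) = b := by
        rw [← st_rfl]
        exact congrArg (fun χ => χ b) (((st_comp d p rfl hp (by rw [Scheme.Hom.comp_apply, hp])).trans (st_congr hdp _)).trans (st_id x rfl))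
      simp only [z, map_sub, e1, e2]
    have : a = d.stalkMap x z + b := by rw [hdz]; ring
    rw [this]
    refine Submodule.add_mem_sup (Ideal.mem_map_of_mem (d.stalkMap x).hom hzker) ?_
    rw [smul_eq_mul, ← pow_two]
    exact hgx a ha
  have hJ : J = m := le_antisymm hJle (Submodule.le_of_le_smul_of_le_jacobson_bot (IsNoetherian.noetherian m)
    (IsLocalRing.maximalIdeal_le_jacobson _) hz)
  have key : ∀ J' : Ideal (A.presheaf.stalk x), J' = m →
      (Module.length (A.presheaf.stalk x) (A.presheaf.stalk x ⧸ J')).toNat = 1 := by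
    rintro _ rfl
    haveI : IsSimpleModule (A.presheaf.stalk x) (A.presheaf.stalk x ⧸ m) :=
      isSimpleModule_iff_isCoatom.2 (IsLocalRing.maximalIdeal.isMaximal _).out
    rw [(Module.length_eq_one (A.presheaf.stalk x) (A.presheaf.stalk x ⧸ m) : _)]
    rfl
  exact key J hJ

end StalkTransport

end Groth.Agent.WeilCohLib
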