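import Mathlib
import Groth.Prelude.Def_W4c1zetahwZeta
import Groth.Agent.WeilCohLib.FixedPts

/-!
The fixed points of the powers of the geometric Frobenius are counted by `Zeta.nPts`.
-/

set_option autoImplicit false
set_option linter.style.haveILetI false
set_option linter.unusedSectionVars false

universe u

noncomputable section

open AlgebraicGeometry CategoryTheory WeilCoh

namespace Groth.Agent.WeilCohLib

variable (k₀ : Type u) [Field k₀] [Finite k₀] (k : Type u) [Field k] [IsAlgClosed k] [Algebra k₀ k]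
variable {X : Scheme.{u}} (f : X ⟶ Spec (CommRingCat.of k₀))

/-- The structure map of a residue field. -/
def resBase (x : X) : CommRingCat.of k₀ ⟶ X.residueField x :=
  (CommRingCat.ofHom (algebraMap k₀ _) ≫ (Scheme.Spec.residueFieldIso (CommRingCat.of k₀) (f x)).inv) ≫
    f.residueFieldMap x

theorem map_resBase (x : X) : Spec.map (resBase k₀ f x) = X.fromSpecResidueField x ≫ f := by
  rw [resBase, Spec.map_comp, Spec.map_comp, Scheme.Spec.map_residueFieldIso_inv_eq_fromSpecResidueField,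
    Scheme.Hom.SpecMap_residueFieldMap_fromSpecResidueField]

theorem residueDegree_eq_finrank (x : X) :
    EGA4loc.residueDegree f x = (letI := (resBase k₀ f x).hom.toAlgebra; Module.finrank k₀ (X.residueField x)) := by
  let ψ₀ : CommRingCat.of k₀ ⟶ (Spec (CommRingCat.of k₀)).residueField (f x) :=
    CommRingCat.ofHom (algebraMap k₀ _) ≫ (Scheme.Spec.residueFieldIso (CommRingCat.of k₀) (f x)).inv
  have hmax : (f x).asIdeal.IsMaximal :=
    (Ideal.eq_bot_or_top (f x).asIdeal).resolve_right (f x).isPrime.ne_top ▸ Ideal.bot_isMaximal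
  have hs : Function.Surjective ψ₀ := by
    intro z
    obtain ⟨r, hr⟩ := Ideal.algebraMap_residueField_surjective (f x).asIdeal
      ((Scheme.Spec.residueFieldIso (CommRingCat.of k₀) (f x)).hom z)
    refine ⟨r, ?_⟩
    show (Scheme.Spec.residueFieldIso (CommRingCat.of k₀) (f x)).inv (algebraMap k₀ _ r) = z
    rw [hr]
    exact Iso.hom_inv_id_apply _ z
  letI a₁ := (f.residueFieldMap x).hom.toAlgebra
  letI a₂ := (resBase k₀ f x).hom.toAlgebra
  exact (Algebra.finrank_eq_of_equiv_equiv (RingEquiv.ofBijective ψ₀.hom ⟨ψ₀.hom.injective, hs⟩) (RingEquiv.refl _) rfl).symm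

theorem dvd_of_forall_pow_eq {F : Type*} [Field F] [Fintype F] (q e m : ℕ) (hq : 2 ≤ q) (hc : Fintype.card F = q ^ e)
    (h : ∀ a : F, a ^ q ^ m = a) : e ∣ m := by
  classical
  obtain ⟨g, hg⟩ := IsCyclic.exists_ofOrder_eq_natCard (α := Fˣ)
  rw [Nat.card_eq_fintype_card, Fintype.card_units, hc] at hg
  have h1 : g ^ (q ^ m - 1) = 1 := by
    refine Units.ext ?_
    refine mul_left_cancel₀ g.ne_zero ?_
    rw [Units.val_pow_eq_pow_val, ← pow_succ', Nat.sub_add_cancel (Nat.one_le_pow _ _ (by omega)), Units.val_one,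
      mul_one, h]
  have h2 : q ^ e - 1 ∣ q ^ m - 1 := hg ▸ orderOf_dvd_of_pow_eq_one h1
  have h3 := Nat.gcd_eq_left h2
  rw [Nat.pow_sub_one_gcd_pow_sub_one] at h3
  have h4 : q ^ Nat.gcd e m = q ^ e := by
    have := Nat.one_le_pow (Nat.gcd e m) q (by omega)
    have := Nat.one_le_pow e q (by omega)
    omega
  exact (Nat.pow_right_injective hq h4) ▸ Nat.gcd_dvd_right e m

theorem pow_card_pow_mul {F : Type*} [Field F] [Fintype F] (q e m : ℕ) (hc : Fintype.card F = q ^ e) (h : e ∣ m)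
    (a : F) : a ^ q ^ m = a := by
  obtain ⟨c, rfl⟩ := h
  rw [pow_mul, ← hc, FiniteField.pow_card_pow]

variable [LocallyOfFiniteType f] (Φ : CommRingCat.of k ⟶ CommRingCat.of k) (m : ℕ) (hm : m ≠ 0)
  (hΦ : ∀ a : k, Φ a = a ^ Nat.card k₀ ^ m)

/-- The embeddings of a residue field fixed by a power of Frobenius. -/
abbrev FixEmb (x : X) : Type u :=
  { σ : X.residueField x ⟶ CommRingCat.of k //
    resBase k₀ f x ≫ σ = CommRingCat.ofHom (algebraMap k₀ k) ∧ σ ≫ Φ = σ }

include hΦ hm in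
theorem fixEmb_closed (x : X) (σ : FixEmb k₀ k f Φ x) :
    IsClosed ({x} : Set X) ∧ EGA4loc.residueDegree f x ∈ m.divisors := by
  letI := (resBase k₀ f x).hom.toAlgebra
  haveI := Fintype.ofFinite k₀
  have hq : 2 ≤ Nat.card k₀ := Finite.one_lt_card
  set Q := Nat.card k₀ ^ m with hQ
  have hQ1 : 1 < Q := one_lt_pow₀ hq hm
  have hroot : {a : k | a ^ Q = a}.Finite := by
    have hne : (Polynomial.X ^ Q - Polynomial.X : Polynomial k) ≠ 0 := FiniteField.X_pow_card_sub_X_ne_zero k hQ1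
    refine Set.Finite.subset (Polynomial.finite_setOfPred_isRoot hne) fun a ha => ?_
    simp [Set.mem_ofPred_eq, Polynomial.IsRoot] at ha ⊢
    rw [ha, sub_self]
  have hfix : ∀ a : X.residueField x, (σ.1 a) ^ Q = σ.1 a := fun a => by
    rw [hQ, ← hΦ]; exact congrArg (fun χ => χ a) σ.2.2
  haveI : Finite (X.residueField x) := by
    haveI := hroot.to_subtype
    exact Finite.of_injective (fun a => (⟨σ.1 a, hfix a⟩ : {a : k | a ^ Q = a}))
      fun a b h => σ.1.hom.injective (congrArg Subtype.val h)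
  haveI := Fintype.ofFinite (X.residueField x)
  have hcard : Fintype.card (X.residueField x) = Nat.card k₀ ^ Module.finrank k₀ (X.residueField x) := by
    rw [Module.card_eq_pow_finrank (K := k₀), Nat.card_eq_fintype_card]
  have he : Module.finrank k₀ (X.residueField x) ∣ m :=
    dvd_of_forall_pow_eq _ _ _ hq hcard fun a => σ.1.hom.injective (by rw [map_pow]; exact hfix a)
  refine ⟨?_, ?_⟩
  · rw [isClosed_iff_pdim_eq_zero f]
    have h := (height_eq f x).2
    letI := (f.residueFieldMap x).hom.toAlgebra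
    haveI : Algebra.IsAlgebraic ((Spec (CommRingCat.of k₀)).residueField (f x)) (X.residueField x) :=
      Algebra.IsAlgebraic.of_finite _ _
    rw [show Groth.Agent.DimFormulaLib.resTrdegAt f x = 0 from trdeg_eq_zero] at h
    exact_mod_cast h.symm
  · rw [residueDegree_eq_finrank, Nat.mem_divisors]
    exact ⟨he, hm⟩

include hΦ in
theorem card_fixEmb (x : X) (hx : EGA4loc.residueDegree f x ∈ m.divisors) :
    Finite (FixEmb k₀ k f Φ x) ∧ Nat.card (FixEmb k₀ k f Φ x) = EGA4loc.residueDegree f x := by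
  letI := (resBase k₀ f x).hom.toAlgebra
  haveI := Fintype.ofFinite k₀
  have hd : EGA4loc.residueDegree f x = Module.finrank k₀ (X.residueField x) := residueDegree_eq_finrank k₀ f x
  rw [hd] at hx ⊢
  obtain ⟨hdvd, hm0⟩ := Nat.mem_divisors.1 hx
  have hpos : 0 < Module.finrank k₀ (X.residueField x) := Nat.pos_of_dvd_of_pos hdvd (Nat.pos_of_ne_zero hm0)
  haveI := Module.finite_of_finrank_pos hpos
  haveI : Finite (X.residueField x) := Module.finite_of_finite k₀
  haveI := Fintype.ofFinite (X.residueField x)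
  have hcard : Fintype.card (X.residueField x) = Nat.card k₀ ^ Module.finrank k₀ (X.residueField x) := by
    rw [Module.card_eq_pow_finrank (K := k₀), Nat.card_eq_fintype_card]
  haveI : Algebra.IsSeparable k₀ (X.residueField x) := inferInstance
  let E : (X.residueField x →ₐ[k₀] k) ≃ FixEmb k₀ k f Φ x :=
    { toFun := fun a => ⟨CommRingCat.ofHom a.toRingHom, by ext r; exact a.commutes r, by
        ext r
        show Φ (a r) = a r
        rw [hΦ, ← map_pow, pow_card_pow_mul _ _ _ hcard hdvd]⟩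
      invFun := fun σ => { σ.1.hom with commutes' := fun r => congrArg (fun χ => χ r) σ.2.1 }
      left_inv := fun a => rfl
      right_inv := fun σ => rfl }
  refine ⟨Finite.of_equiv _ E, ?_⟩
  rw [← Nat.card_congr E, Nat.card_eq_fintype_card, AlgHom.card]

/-- The points over `k` fixed by a power of Frobenius. -/
abbrev FixPts : Type u :=
  { t : Spec (CommRingCat.of k) ⟶ X //
    t ≫ f = Spec.map (CommRingCat.ofHom (algebraMap k₀ k)) ∧ Spec.map Φ ≫ t = t }

theorem fixPts_iff (x : X) (σ : X.residueField x ⟶ CommRingCat.of k) :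
    ((Spec.map σ ≫ X.fromSpecResidueField x) ≫ f = Spec.map (CommRingCat.ofHom (algebraMap k₀ k)) ∧
      Spec.map Φ ≫ Spec.map σ ≫ X.fromSpecResidueField x = Spec.map σ ≫ X.fromSpecResidueField x) ↔
    (resBase k₀ f x ≫ σ = CommRingCat.ofHom (algebraMap k₀ k) ∧ σ ≫ Φ = σ) := by
  refine and_congr ?_ ?_
  · rw [Category.assoc, ← map_resBase k₀ f x, ← Spec.map_comp, Spec.map_inj]
  · constructor
    · intro h
      rw [← Spec.map_comp_assoc] at h
      have h' : (Scheme.SpecToEquivOfField k X).symm ⟨x, σ ≫ Φ⟩ = (Scheme.SpecToEquivOfField k X).symm ⟨x, σ⟩ := h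
      exact eq_of_heq (Sigma.mk.inj ((Scheme.SpecToEquivOfField k X).symm.injective h')).2
    · intro h
      rw [← Spec.map_comp_assoc, h]

theorem fixPts_equiv : Nonempty (FixPts k₀ k f Φ ≃ Σ x : X, FixEmb k₀ k f Φ x) := by
  let F : (Σ x : X, FixEmb k₀ k f Φ x) → FixPts k₀ k f Φ := fun z =>
    ⟨(Scheme.SpecToEquivOfField k X).symm ⟨z.1, z.2.1⟩, (fixPts_iff k₀ k f Φ z.1 z.2.1).2 z.2.2⟩
  have hF : Function.Bijective F := by
    constructor
    · rintro ⟨x, σ, hσ⟩ ⟨x', σ', hσ'⟩ h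
      obtain ⟨rfl, hs⟩ := Sigma.mk.inj ((Scheme.SpecToEquivOfField k X).symm.injective (congrArg Subtype.val h))
      obtain rfl := eq_of_heq hs
      rfl
    · rintro ⟨t, ht⟩
      obtain ⟨⟨x, σ⟩, rfl⟩ := (Scheme.SpecToEquivOfField k X).symm.surjective t
      exact ⟨⟨x, σ, (fixPts_iff k₀ k f Φ x σ).1 ht⟩, rfl⟩
  exact ⟨(Equiv.ofBijective F hF).symm⟩

include hΦ hm in
theorem nPts_eq_card [Finite (FixPts k₀ k f Φ)] : Zeta.nPts f m = Nat.card (FixPts k₀ k f Φ) := by
  classical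
  obtain ⟨E⟩ := fixPts_equiv k₀ k f Φ
  haveI : Finite (Σ x : X, FixEmb k₀ k f Φ x) := Finite.of_equiv _ E
  have hS : (Set.range (Sigma.fst : (Σ x : X, FixEmb k₀ k f Φ x) → X)).Finite := Set.finite_range _
  set S := hS.toFinset with hSdef
  have hSmem : ∀ x, x ∈ S ↔ Nonempty (FixEmb k₀ k f Φ x) := fun x => by
    simp only [hSdef, Set.Finite.mem_toFinset, Set.mem_range]
    exact ⟨fun ⟨⟨y, σ⟩, hy⟩ => hy ▸ ⟨σ⟩, fun ⟨σ⟩ => ⟨⟨x, σ⟩, rfl⟩⟩
  have hdeg : ∀ x ∈ S, IsClosed ({x} : Set X) ∧ EGA4loc.residueDegree f x ∈ m.divisors := fun x hx =>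
    ((hSmem x).1 hx).elim (fixEmb_closed k₀ k f Φ m hm hΦ x)
  haveI : ∀ x : S, Finite (FixEmb k₀ k f Φ x.1) := fun x => (card_fixEmb k₀ k f Φ m hΦ x.1 (hdeg _ x.2).2).1
  have hR : Nat.card (FixPts k₀ k f Φ) = ∑ x ∈ S, EGA4loc.residueDegree f x := by
    have E2 : (Σ x : X, FixEmb k₀ k f Φ x) ≃ Σ x : S, FixEmb k₀ k f Φ x.1 :=
      { toFun := fun z => ⟨⟨z.1, (hSmem z.1).2 ⟨z.2⟩⟩, z.2⟩
        invFun := fun z => ⟨z.1.1, z.2⟩
        left_inv := fun z => rfl
        right_inv := fun z => rfl }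
    rw [Nat.card_congr (E.trans E2), Nat.card_sigma, ← Finset.sum_coe_sort S]
    exact Finset.sum_congr rfl fun x _ => (card_fixEmb k₀ k f Φ m hΦ x.1 (hdeg _ x.2).2).2
  rw [hR, Zeta.nPts, ← Finset.sum_fiberwise_of_maps_to (g := EGA4loc.residueDegree f) (t := m.divisors)
    (fun x hx => (hdeg x hx).2)]
  refine Finset.sum_congr rfl fun e he => ?_
  have hset : {x : X | IsClosed ({x} : Set X) ∧ EGA4loc.residueDegree f x = e} =
      ↑(S.filter fun x => EGA4loc.residueDegree f x = e) := by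
    ext x
    simp only [Set.mem_ofPred_eq, Finset.coe_filter]
    refine ⟨fun h => ⟨(hSmem x).2 ?_, h.2⟩, fun h => ⟨(hdeg x h.1).1, h.2⟩⟩
    obtain ⟨hf, hc⟩ := card_fixEmb k₀ k f Φ m hΦ x (h.2 ▸ he)
    exact (Nat.card_pos_iff.1 (by rw [hc, h.2]; exact Nat.pos_of_mem_divisors he)).1
  rw [Zeta.degCount, show Nat.card {x : X // IsClosed ({x} : Set X) ∧ EGA4loc.residueDegree f x = e} =
    Nat.card ↥({x : X | IsClosed ({x} : Set X) ∧ EGA4loc.residueDegree f x = e}) from rfl, hset,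
    Nat.card_coe_set_eq, Set.ncard_coe_finset,
    Finset.sum_congr rfl (fun x hx => (Finset.mem_filter.1 hx).2), Finset.sum_const, smul_eq_mul, mul_comm]

end Groth.Agent.WeilCohLib
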