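import Mathlib
import Groth.Prelude.Def_W4c1zetahwZeta
import Groth.Agent.WeilCohLib.PtCount
import Groth.Agent.S15450

/-!
The Lefschetz trace formula for the powers of the geometric Frobenius, and the cohomological expression
of the zeta function.
-/

set_option autoImplicit false
set_option linter.style.haveILetI false
set_option linter.unusedSectionVars false

universe u v

noncomputable section

open AlgebraicGeometry CategoryTheory WeilCoh

namespace Groth.Agent.WeilCohLib

theorem isSeparated_var {k : Type u} [Field k] (X : Var k) : IsSeparated X.obj.hom := by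
  obtain ⟨n, i, hi, h⟩ := X.property.2.1
  haveI : IsProper (CohB1.ProjSpaceOver.toBase n (Spec (CommRingCat.of k))) :=
    inferInstanceAs (IsProper (Limits.pullback.snd (CohB1.ProjSpace.toSpec n (ULift.{u} ℤ))
      (specULiftZIsTerminal.from (Spec (CommRingCat.of k)))))
  rw [← h]; infer_instance

variable {k₀ : Type u} [Field k₀] [Finite k₀] {k : Type u} [Field k] [IsAlgClosed k] [Algebra k₀ k]
variable {K : Type v} [Field K] [CharZero K]

/-- The iterates of an endomorphism in the category. -/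
def iterV {Xb : Var k} (F : Xb ⟶ Xb) : ℕ → (Xb ⟶ Xb) := fun n => Nat.rec (𝟙 Xb) (fun _ g => g ≫ F) n

theorem sm_iterV {Xb : Var k} (F : Xb ⟶ Xb) (n : ℕ) : sm (iterV F n) = iter (sm F) n := by
  induction n with
  | zero => rfl
  | succ n ih =>
    show sm (iterV F n) ≫ sm F = iter (sm F) n ≫ sm F
    rw [ih]

theorem pullDeg_iterV (T : Theory k K) {Xb : Var k} (F : Xb ⟶ Xb) (n : ℕ) (i : ℤ) :
    T.pullDeg (iterV F n) i = (T.pullDeg F i) ^ n := by
  induction n with
  | zero => refine LinearMap.ext fun b => Subtype.ext ?_; change T.pull (𝟙 Xb) _ = _; rw [T.pull_id]; rfl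
  | succ n ih =>
    rw [pow_succ, ← ih]
    refine LinearMap.ext fun b => Subtype.ext ?_
    change T.pull (iterV F n ≫ F) _ = _
    rw [T.pull_comp]; rfl

variable {X : Scheme.{u}} {f : X ⟶ Spec (CommRingCat.of k₀)} [LocallyOfFiniteType f]
  (FX : X ⟶ X) (hFb : FX.base = 𝟙 _) (hle : ∀ U : X.Opens, U ≤ FX ⁻¹ᵁ U)
  (hFapp : ∀ (U : X.Opens) (s : Γ(X, U)), (FX.appLE U U (hle U)).hom s = s ^ Nat.card k₀)
  {Xb : Var k} {π : Xb.obj.left ⟶ X}
  (hπ : IsPullback π Xb.obj.hom f (Spec.map (CommRingCat.ofHom (algebraMap k₀ k))))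
  (F : Xb ⟶ Xb) (hF : sm F ≫ π = π ≫ FX)
  {Pb : Var k} {p q : Pb ⟶ Xb} (hP : IsProd p q)

/-- The closed fixed points. -/
abbrev Fixed (G : Xb.obj.left ⟶ Xb.obj.left) : Type u :=
  { x : Xb.obj.left // IsClosed ({x} : Set Xb.obj.left) ∧ G x = x }

include hP hFb hFapp hπ hF in
theorem intersection_number (T : Theory k K) (m : ℕ) (j d : Xb ⟶ Pb) (hjp : j ≫ p = 𝟙 Xb)
    (hjq : j ≫ q = iterV F (m + 1)) (hdp : d ≫ p = 𝟙 Xb) (hdq : d ≫ q = 𝟙 Xb) :
    Finite (Fixed (iter (sm F) (m + 1))) ∧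
      T.tr Pb (T.cl Pb (sm j (genericPoint Xb.obj.left)) * T.cl Pb (sm d (genericPoint Xb.obj.left))) =
        (Nat.card (Fixed (iter (sm F) (m + 1))) : K) := by
  classical
  set η := genericPoint Xb.obj.left with hη
  set G := iter (sm F) (m + 1) with hG
  have hjp' : sm j ≫ sm p = 𝟙 Xb.obj.left := sm_comp_eq hjp
  have hdp' : sm d ≫ sm p = 𝟙 Xb.obj.left := sm_comp_eq hdp
  have hdq' : sm d ≫ sm q = 𝟙 Xb.obj.left := sm_comp_eq hdq
  have hjq' : sm j ≫ sm q = G := by
    rw [hG, ← sm_iterV F (m + 1), ← hjq]; rfl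
  haveI : IsSeparated Xb.obj.hom := isSeparated_var Xb
  haveI : IsSeparated Pb.obj.hom := isSeparated_var Pb
  haveI : IsSeparated (sm p ≫ Xb.obj.hom) := by rw [sm_comp_hom]; infer_instance
  haveI : IsSeparated (sm p) := IsSeparated.of_comp (sm p) Xb.obj.hom
  haveI : IsClosedImmersion (sm j ≫ sm p) := by rw [hjp']; infer_instance
  haveI : IsClosedImmersion (sm j) := IsClosedImmersion.of_comp (sm j) (sm p)
  have hrange : closure ({sm j η} : Set Pb.obj.left) = Set.range (sm j) := by
    rw [← Set.image_singleton, (sm j).isClosedEmbedding.closure_image_eq, hη, genericPoint_closure,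
      Set.image_univ]
  set Φs := (sm d) ⁻¹' closure ({sm j η} : Set Pb.obj.left) with hΦs
  have hdeg := fun z => residueDegree_iter k₀ k hπ FX hFb hle hFapp (sm F) (sm_comp_hom F) hF (m + 1) z
  have hmem : ∀ x, x ∈ Φs ↔ IsClosed ({x} : Set Xb.obj.left) ∧ G x = x := by
    intro x
    rw [hΦs, Set.mem_preimage, hrange]
    constructor
    · rintro ⟨y, hy⟩
      have hyx : y = x := by
        have h1 := congrArg (sm p) hy
        rwa [← Scheme.Hom.comp_apply, ← Scheme.Hom.comp_apply, hjp', hdp'] at h1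
      subst hyx
      have hGy : G y = y := by
        rw [← hjq', Scheme.Hom.comp_apply, hy, ← Scheme.Hom.comp_apply, hdq']; rfl
      refine ⟨(isClosed_iff_pdim_eq_zero Xb.obj.hom y).2 ?_, hGy⟩
      have h1 : G.residueDegree y = 1 := by
        rw [← residueDegree_congr hjq' y, residueDegree_comp', hy, (residueDegree_of_comp_eq_id _ _ hdq' y).2,
          (residueDegree_of_comp_eq_id _ _ hjp' y).1]
      rw [hG, hdeg, Nat.pow_eq_one] at h1
      rcases h1 with h1 | h1
      · exact absurd h1 (Finite.one_lt_card (α := k₀)).ne'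
      · exact (Nat.mul_eq_zero.1 h1).resolve_left (Nat.succ_ne_zero m)
    · rintro ⟨hx, hGx⟩
      refine ⟨x, ?_⟩
      set s := pointOfClosedPoint Xb.obj.hom x hx with hs
      have hsG : s ≫ G = s := by
        refine ext_of_apply_closedPoint_eq Xb.obj.hom ?_ ?_ ?_
        · rw [Category.assoc, iter_comp k (sm F) (sm_comp_hom F), pointOfClosedPoint_comp]
        · exact pointOfClosedPoint_comp _ _ _
        · rw [Scheme.Hom.comp_apply, pointOfClosedPoint_apply, hGx]
      have hjd : s ≫ sm j = s ≫ sm d := by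
        apply hP.hom_ext
        · rw [Category.assoc, Category.assoc, hjp', hdp']
        · rw [Category.assoc, Category.assoc, hjq', hdq', hsG, Category.comp_id]
      have h1 := congrArg (fun φ => φ (IsLocalRing.closedPoint k)) hjd
      simpa [Scheme.Hom.comp_apply, pointOfClosedPoint_apply, hs] using h1
  have hclosed : IsClosed Φs := isClosed_closure.preimage (sm d).continuous
  haveI : CompactSpace ↥Xb.obj.left := compactSpace_var Xb
  haveI : IsLocallyNoetherian Xb.obj.left := LocallyOfFiniteType.isLocallyNoetherian Xb.obj.hom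
  haveI : IsNoetherian Xb.obj.left := ⟨⟩
  have hfin : Φs.Finite := by
    obtain ⟨S, hSf, hSc, hSi, hSu⟩ := TopologicalSpace.NoetherianSpace.exists_finite_set_isClosed_irreducible hclosed
    rw [hSu]
    refine hSf.sUnion fun t ht => ?_
    obtain ⟨w, hw⟩ := QuasiSober.sober (hSi t ht) (hSc t ht)
    have hwΦ : w ∈ Φs := by rw [hSu]; exact ⟨t, ht, hw.mem⟩
    rw [← hw.def, ((hmem w).1 hwΦ).1.closure_eq]
    exact Set.finite_singleton w
  haveI hfin' : Finite (Fixed G) := (hfin.subset fun x hx => (hmem x).2 hx).to_subtype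
  refine ⟨hfin', ?_⟩
  have hcomp : ∀ x, IsCompPt Φs x ↔ x ∈ Φs := fun x => ⟨fun h => h.1, fun h => ⟨h, fun w' hw' hs => by
    have h1 : x ∈ closure ({w'} : Set Xb.obj.left) := specializes_iff_mem_closure.1 hs
    rw [((hmem w').1 hw').1.closure_eq] at h1
    exact h1.symm⟩⟩
  have hd2 := dim_prod T p q hP
  have hjη := pdim_section hjp η
  rw [← dim_eq_pdim_genericPoint Xb.obj.hom] at hjη
  have hmult : ∀ (w : Xb.obj.left) (hw : IsCompPt Φs w), preimMult (sm d) (sm j η) w hw.1 = 1 := by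
    intro w hw
    obtain ⟨hc, hGw⟩ := (hmem w).1 hw.1
    have hjw : sm j w = sm d w := by
      have h1 := hw.1
      rw [hΦs, Set.mem_preimage, hrange] at h1
      obtain ⟨y, hy⟩ := h1
      have hyx : y = w := by
        have h2 := congrArg (sm p) hy
        rwa [← Scheme.Hom.comp_apply, ← Scheme.Hom.comp_apply, hjp', hdp'] at h2
      rwa [hyx] at hy
    exact preimMult_eq_one (sm p) (sm q) (sm j) (sm d) G hjp' hjq' hdp' hdq' w hjw
      (fun a ha => stalkMap_iter_mem_sq k₀ k hπ FX hFb hle hFapp (sm F) (sm_comp_hom F) hF m w hc a ha) hw.1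
  have h := T.cl_pull d (sm j η) (fun w hw => by
      have hc := (isClosed_iff_pdim_eq_zero Xb.obj.hom w).1 ((hmem w).1 hw.1).1
      rw [hc, hjη]; omega)
    (Or.inr hmult)
  haveI : Finite {w : Xb.obj.left // IsCompPt Φs w} :=
    (hfin.subset fun x hx => (hcomp x).1 hx).to_subtype
  haveI := Fintype.ofFinite {w : Xb.obj.left // IsCompPt Φs w}
  rw [finsum_eq_sum_of_fintype] at h
  have hm := cl_section_mem T hP hjp
  rw [commute_even T Pb hm (even_two_mul _), tr_cl_section T hdp hm, h, map_sum]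
  rw [Finset.sum_congr rfl (fun (w : {w // IsCompPt Φs w}) _ => by
    rw [hmult w.1 w.2, Nat.cast_one, one_smul, tr_cl_closed T Xb w.1 ((hmem w.1).1 w.2.1).1]),
    Finset.sum_const, nsmul_one, Finset.card_univ, ← Nat.card_eq_fintype_card]
  exact congrArg _ (Nat.card_congr (Equiv.subtypeEquivRight fun x => (hcomp x).trans (hmem x)))

include hFapp hπ hF in
theorem fixed_equiv (m : ℕ) (Φ : CommRingCat.of k ⟶ CommRingCat.of k) (hΦ : ∀ a : k, Φ a = a ^ Nat.card k₀ ^ m) :
    Nonempty (Fixed (iter (sm F) m) ≃ FixPts k₀ k f Φ) := by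
  obtain ⟨ch, e, hp, hc, he, hq⟩ := exists_prime_card k₀ k
  haveI := Fact.mk hp
  haveI : ExpChar k ch := .prime hp
  -- naturality with the absolute Frobenius
  have hnat : ∀ (l : ℕ) (s : Spec (CommRingCat.of k) ⟶ Xb.obj.left) (Ψ : CommRingCat.of k ⟶ CommRingCat.of k),
      (∀ a : k, Ψ a = a ^ Nat.card k₀ ^ l) → s ≫ iter (sm F) l ≫ π = Spec.map Ψ ≫ s ≫ π := by
    intro l
    induction l with
    | zero =>
      intro s Ψ hΨ
      have : Ψ = 𝟙 _ := by
        ext a
        exact (hΨ a).trans (by rw [pow_zero, pow_one]; rfl)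
      rw [this, iter_zero, Category.id_comp, Spec.map_id, Category.id_comp]
    | succ l ih =>
      intro s Ψ hΨ
      let Ψl : CommRingCat.of k ⟶ CommRingCat.of k := CommRingCat.ofHom (iterateFrobenius k ch (e * l))
      let Ψ1 : CommRingCat.of k ⟶ CommRingCat.of k := CommRingCat.ofHom (iterateFrobenius k ch e)
      have hl : ∀ a : k, Ψl a = a ^ Nat.card k₀ ^ l := fun a => by
        rw [hq, ← pow_mul]; exact iterateFrobenius_def ..
      have h1 : ∀ a : k, Ψ1 a = a ^ Nat.card k₀ := fun a => by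
        rw [hq]; exact iterateFrobenius_def ..
      have hΨ' : Ψ = Ψl ≫ Ψ1 := by
        ext a
        rw [hΨ]
        show _ = Ψ1 (Ψl a)
        rw [h1, hl, ← pow_mul, ← pow_succ]
      rw [iter_succ, Category.assoc, hF, ← Category.assoc (iter (sm F) l) π FX, ← Category.assoc s _ FX,
        ih s Ψl hl, hΨ', Spec.map_comp, Category.assoc, Category.assoc, Category.assoc,
        show s ≫ π ≫ FX = Spec.map Ψ1 ≫ s ≫ π from by
          rw [← Category.assoc, comp_frob FX _ hle hFapp (s ≫ π) Ψ1 h1]]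
      rw [← Spec.map_comp_assoc, ← Spec.map_comp_assoc]
      congr 2
      ext a
      show Ψl (Ψ1 a) = Ψ1 (Ψl a)
      rw [hl, h1, h1, hl, ← pow_mul, ← pow_mul, mul_comm]
  let Fm : Fixed (iter (sm F) m) → FixPts k₀ k f Φ := fun x =>
    ⟨pointOfClosedPoint Xb.obj.hom x.1 x.2.1 ≫ π, by
      rw [Category.assoc, hπ.w, pointOfClosedPoint_comp_assoc], by
      rw [← hnat m _ Φ hΦ, ← Category.assoc]
      congr 1
      refine ext_of_apply_closedPoint_eq Xb.obj.hom ?_ (pointOfClosedPoint_comp _ _ _) ?_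
      · rw [Category.assoc, iter_comp k (sm F) (sm_comp_hom F), pointOfClosedPoint_comp]
      · rw [Scheme.Hom.comp_apply, pointOfClosedPoint_apply]; exact x.2.2⟩
  have hbij : Function.Bijective Fm := by
    constructor
    · intro x y h
      have h' : pointOfClosedPoint Xb.obj.hom x.1 x.2.1 = pointOfClosedPoint Xb.obj.hom y.1 y.2.1 := by
        apply hπ.hom_ext
        · exact congrArg Subtype.val h
        · rw [pointOfClosedPoint_comp, pointOfClosedPoint_comp]
      have h1 := congrArg (fun φ => φ (IsLocalRing.closedPoint k)) h'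
      simp only [pointOfClosedPoint_apply] at h1
      exact Subtype.ext h1
    · rintro ⟨t, ht1, ht2⟩
      let s := hπ.lift t (𝟙 _) (by rw [ht1, Category.id_comp])
      have hs : s ≫ Xb.obj.hom = 𝟙 _ := hπ.lift_snd _ _ _
      have hsπ : s ≫ π = t := hπ.lift_fst _ _ _
      have hx : IsClosed ({s (IsLocalRing.closedPoint k)} : Set Xb.obj.left) := by
        have := ((pointEquivClosedPoint Xb.obj.hom) ⟨s, hs⟩).2
        exact this
      have hsG : s ≫ iter (sm F) m = s := by
        apply hπ.hom_ext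
        · rw [Category.assoc, hnat m s Φ hΦ, hsπ, ht2]
        · rw [Category.assoc, iter_comp k (sm F) (sm_comp_hom F)]
      refine ⟨⟨s (IsLocalRing.closedPoint k), hx, ?_⟩, Subtype.ext ?_⟩
      · rw [← Scheme.Hom.comp_apply, hsG]
      · show pointOfClosedPoint Xb.obj.hom _ hx ≫ π = t
        rw [ext_of_apply_closedPoint_eq Xb.obj.hom (pointOfClosedPoint_comp _ _ hx) hs (pointOfClosedPoint_apply ..)]
        exact hsπ
  exact ⟨Equiv.ofBijective Fm hbij⟩

include hP hFb hFapp hπ hF in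
/-- The Lefschetz trace formula for the powers of Frobenius. -/
theorem lefschetz (T : Theory k K) (m : ℕ) :
    (Zeta.nPts f (m + 1) : K) = ∑ i ∈ Finset.range (2 * dim Xb.obj.left + 1),
      (-1 : K) ^ i * LinearMap.trace K (T.gr Xb (i : ℤ)) ((T.pullDeg F (i : ℤ)) ^ (m + 1)) := by
  obtain ⟨j, hjp, hjq⟩ := exists_lift hP (𝟙 Xb) (iterV F (m + 1))
  obtain ⟨d, hdp, hdq⟩ := exists_lift hP (𝟙 Xb) (𝟙 Xb)
  obtain ⟨hfin, hint⟩ := intersection_number FX hFb hle hFapp hπ F hF hP T m j d hjp hjq hdp hdq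
  rw [Groth.Agent.S15450.result k K T Xb Pb (iterV F (m + 1)) p q hP j d hjp hjq hdp hdq] at hint
  simp only [pullDeg_iterV] at hint
  obtain ⟨ch, e, hp, hc, he, hq⟩ := exists_prime_card k₀ k
  haveI := Fact.mk hp
  haveI : ExpChar k ch := .prime hp
  let Φ : CommRingCat.of k ⟶ CommRingCat.of k := CommRingCat.ofHom (iterateFrobenius k ch (e * (m + 1)))
  have hΦ : ∀ a : k, Φ a = a ^ Nat.card k₀ ^ (m + 1) := fun a => by
    rw [hq, ← pow_mul]; exact iterateFrobenius_def ..
  obtain ⟨E⟩ := fixed_equiv FX hle hFapp hπ F hF (m + 1) Φ hΦ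
  haveI := Finite.of_equiv _ E
  rw [nPts_eq_card k₀ k f Φ (m + 1) (Nat.succ_ne_zero m) hΦ, ← Nat.card_congr E, hint]

end Groth.Agent.WeilCohLib
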