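import Mathlib
import Groth.Prelude.Def_W4c1zetahwZeta
import Groth.Agent.WeilCohLib.Lefschetz
import Groth.Agent.S13056

/-!
Exponentials of power series; the zeta function as a product of characteristic polynomials.
-/

set_option autoImplicit false
set_option linter.style.haveILetI false
set_option linter.unusedSectionVars false

universe u v

noncomputable section

open AlgebraicGeometry CategoryTheory WeilCoh

namespace Groth.Agent.WeilCohLib

section Exp

variable {R : Type v} [Field R] [CharZero R]

/-- The exponential of a power series without constant term. -/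
def expS (a : PowerSeries R) : PowerSeries R := PowerSeries.subst a (PowerSeries.exp R)

theorem constantCoeff_expS {a : PowerSeries R} (ha : PowerSeries.constantCoeff a = 0) :
    PowerSeries.constantCoeff (expS a) = 1 := by
  rw [← PowerSeries.coeff_zero_eq_constantCoeff_apply, expS,
    PowerSeries.coeff_subst' (PowerSeries.HasSubst.of_constantCoeff_zero' ha), finsum_eq_single _ 0]
  · simp
  · intro d hd
    rw [PowerSeries.coeff_zero_eq_constantCoeff_apply, map_pow, ha, zero_pow hd, smul_zero]

theorem derivative_expS {a : PowerSeries R} (ha : PowerSeries.constantCoeff a = 0) :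
    PowerSeries.derivative R (expS a) = expS a * PowerSeries.derivative R a := by
  rw [expS, PowerSeries.derivative_subst (PowerSeries.HasSubst.of_constantCoeff_zero' ha), PowerSeries.derivative_exp]

theorem expS_add {a b : PowerSeries R} (ha : PowerSeries.constantCoeff a = 0) (hb : PowerSeries.constantCoeff b = 0) :
    expS (a + b) = expS a * expS b := by
  have hab : PowerSeries.constantCoeff (a + b) = 0 := by rw [map_add, ha, hb, add_zero]
  have hne : PowerSeries.constantCoeff (expS (a + b)) ≠ 0 := by rw [constantCoeff_expS hab]; exact one_ne_zero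
  have hQ : expS a * expS b * (expS (a + b))⁻¹ = 1 := by
    refine PowerSeries.derivative.ext ?_ ?_
    · rw [Derivation.leibniz, Derivation.leibniz, PowerSeries.derivative_inv', derivative_expS ha, derivative_expS hb,
        derivative_expS hab, Derivation.map_one_eq_zero, map_add, smul_eq_mul, smul_eq_mul, smul_eq_mul, smul_eq_mul]
      have h : expS (a + b) * (expS (a + b))⁻¹ = 1 := PowerSeries.mul_inv_cancel _ hne
      linear_combination (-(expS a * expS b * (PowerSeries.derivative R a + PowerSeries.derivative R b) * (expS (a + b))⁻¹)) * h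
    · rw [map_mul, map_mul, PowerSeries.constantCoeff_inv, constantCoeff_expS ha, constantCoeff_expS hb,
        constantCoeff_expS hab, map_one, inv_one, mul_one, mul_one]
  exact ((PowerSeries.eq_mul_inv_iff_mul_eq hne).1 hQ.symm).symm.trans (one_mul _) |>.symm

theorem expS_zero : expS (0 : PowerSeries R) = 1 := by
  refine PowerSeries.derivative.ext ?_ ?_
  · rw [derivative_expS (map_zero _), map_zero, mul_zero, Derivation.map_one_eq_zero]
  · rw [constantCoeff_expS (map_zero _), map_one]

theorem expS_sum {ι : Type*} (s : Finset ι) (a : ι → PowerSeries R) (ha : ∀ i ∈ s, PowerSeries.constantCoeff (a i) = 0) :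
    expS (∑ i ∈ s, a i) = ∏ i ∈ s, expS (a i) := by
  classical
  induction s using Finset.induction_on with
  | empty => rw [Finset.sum_empty, Finset.prod_empty, expS_zero]
  | insert i s hi ih =>
    rw [Finset.sum_insert hi, Finset.prod_insert hi, expS_add (ha i (Finset.mem_insert_self i s))
      (by rw [map_sum]; exact Finset.sum_eq_zero fun j hj => ha j (Finset.mem_insert_of_mem hj)),
      ih fun j hj => ha j (Finset.mem_insert_of_mem hj)]

end Exp

variable {k₀ : Type u} [Field k₀] [Finite k₀] {k : Type u} [Field k] [IsAlgClosed k] [Algebra k₀ k]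
variable {K : Type v} [Field K] [CharZero K]
variable {X : Scheme.{u}} {f : X ⟶ Spec (CommRingCat.of k₀)} [LocallyOfFiniteType f]
  (FX : X ⟶ X) (hFb : FX.base = 𝟙 _) (hle : ∀ U : X.Opens, U ≤ FX ⁻¹ᵁ U)
  (hFapp : ∀ (U : X.Opens) (s : Γ(X, U)), (FX.appLE U U (hle U)).hom s = s ^ Nat.card k₀)
  {Xb : Var k} {π : Xb.obj.left ⟶ X}
  (hπ : IsPullback π Xb.obj.hom f (Spec.map (CommRingCat.ofHom (algebraMap k₀ k))))
  (F : Xb ⟶ Xb) (hF : sm F ≫ π = π ≫ FX)
  {Pb : Var k} {p q : Pb ⟶ Xb} (hP : IsProd p q)

include hP hFb hFapp hπ hF in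
theorem zetaFun_mul_eq (T : Theory k K) :
    PowerSeries.map (algebraMap ℚ K) (Zeta.zetaFun f) *
        (∏ i ∈ Finset.range (dim Xb.obj.left + 1),
          ((LinearMap.charpoly (T.pullDeg F ((2 * i : ℕ) : ℤ))).reverse : PowerSeries K)) =
      ∏ i ∈ Finset.range (dim Xb.obj.left),
        ((LinearMap.charpoly (T.pullDeg F ((2 * i + 1 : ℕ) : ℤ))).reverse : PowerSeries K) := by
  classical
  set n := dim Xb.obj.left with hn
  let L : ℕ → PowerSeries K := fun i =>
    PowerSeries.mk fun m : ℕ => -(LinearMap.trace K (T.gr Xb (i : ℤ)) ((T.pullDeg F (i : ℤ)) ^ m)) / (m : K)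
  have hL0 : ∀ i, PowerSeries.constantCoeff (L i) = 0 := fun i => by
    rw [← PowerSeries.coeff_zero_eq_constantCoeff_apply, PowerSeries.coeff_mk]; simp
  have hL : ∀ i : ℕ, ((LinearMap.charpoly (T.pullDeg F (i : ℤ))).reverse : PowerSeries K) = expS (L i) := by
    intro i
    let b := Module.finBasis K (T.gr Xb (i : ℤ))
    rw [← LinearMap.charpoly_toMatrix (T.pullDeg F (i : ℤ)) b, Matrix.reverse_charpoly, Groth.Agent.S13056.result]
    show PowerSeries.subst _ _ = PowerSeries.subst _ _
    congr 2
    funext m
    rw [LinearMap.trace_eq_matrix_trace K b, LinearMap.toMatrix_pow]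
  have hlog0 : PowerSeries.constantCoeff (PowerSeries.map (algebraMap ℚ K) (Zeta.logZeta f)) = 0 := by
    rw [← PowerSeries.coeff_zero_eq_constantCoeff_apply, PowerSeries.coeff_map, Zeta.logZeta, PowerSeries.coeff_mk]
    simp
  have hlogQ : PowerSeries.constantCoeff (Zeta.logZeta f) = 0 := by
    rw [← PowerSeries.coeff_zero_eq_constantCoeff_apply, Zeta.logZeta, PowerSeries.coeff_mk]; simp
  have hmap : PowerSeries.map (algebraMap ℚ K) (Zeta.zetaFun f) = expS (PowerSeries.map (algebraMap ℚ K) (Zeta.logZeta f)) := by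
    rw [Zeta.zetaFun, expS]
    refine (PowerSeries.map_subst (PowerSeries.HasSubst.of_constantCoeff_zero' hlogQ) _).trans ?_
    rw [PowerSeries.map_exp]
    rfl
  have hlog : PowerSeries.map (algebraMap ℚ K) (Zeta.logZeta f) + ∑ i ∈ Finset.range (n + 1), L (2 * i) =
      ∑ i ∈ Finset.range n, L (2 * i + 1) := by
    refine PowerSeries.ext fun m => ?_
    rw [map_add, map_sum, map_sum, PowerSeries.coeff_map, Zeta.logZeta, PowerSeries.coeff_mk]
    simp only [L, PowerSeries.coeff_mk]
    rcases m with _ | m
    · simp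
    rw [map_div₀, map_natCast, map_natCast, ← Finset.sum_div, ← Finset.sum_div, ← add_div,
      lefschetz FX hFb hle hFapp hπ F hF hP T m, ← hn]
    congr 1
    have hsplit : ∀ a : ℕ → K, ∀ N : ℕ, ∑ i ∈ Finset.range (2 * N + 1), (-1 : K) ^ i * a i =
        (∑ i ∈ Finset.range (N + 1), a (2 * i)) - ∑ i ∈ Finset.range N, a (2 * i + 1) := by
      intro a N
      induction N with
      | zero => simp
      | succ N ih =>
        rw [show 2 * (N + 1) + 1 = 2 * N + 1 + 1 + 1 by ring, Finset.sum_range_succ, Finset.sum_range_succ, ih,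
          Finset.sum_range_succ (fun i => a (2 * i)) (N + 1), Finset.sum_range_succ (fun i => a (2 * i + 1)) N]
        simp [pow_succ, pow_mul, mul_add]
        ring
    rw [hsplit (fun i => LinearMap.trace K (T.gr Xb (i : ℤ)) ((T.pullDeg F (i : ℤ)) ^ (m + 1))) n]
    simp only [Finset.sum_neg_distrib]
    ring
  simp only [hL]
  rw [hmap, ← expS_sum _ _ (fun i _ => hL0 _), ← expS_sum _ _ (fun i _ => hL0 _), ← expS_add hlog0
    (by rw [map_sum]; exact Finset.sum_eq_zero fun i _ => hL0 _), hlog]

end Groth.Agent.WeilCohLib
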